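import Mathlib
import Cfsg.Agent.Prune
set_option linter.all false
prune_inst 0x7f00000000000000000000000000000000000000000000000000000000000000000000000000000000000000000000000000000000000000000000000000000000000000000000000000000000000000003fffffffffffffffffffffffffffbeffbdffffffff
open scoped Cfsg.Agent.FastGrp

/-!
# Entrywise field automorphisms of matrix groups

* `Stab G` : the matrix group `G` is stable under all automorphisms of the field;
* `fieldAut` : the field automorphisms of `G`;
* `Fx σ` : the field of fixed elements of `σ`; `card_Fx` : `#F = #(Fx σ) ^ (order of σ)`;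
* `mem_fix_iff` : `g` is fixed by `fieldAut σ` iff its entries are in `Fx σ`;
* `exists_ringAut` : an automorphism of order `n` of the field with `p ^ n` elements.
-/

set_option autoImplicit false

namespace Cfsg.Agent.H967.CopMat

open scoped MatrixGroups

variable {ι : Type*} [Fintype ι] [DecidableEq ι] {F : Type*} [Field F]

/-- The matrix group is stable under the automorphisms of the field. -/
def Stab (G : Subgroup (GL ι F)) : Prop :=
  ∀ (σ : F ≃+* F), ∀ g ∈ G, Matrix.GeneralLinearGroup.map (σ : F →+* F) g ∈ G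

theorem map_apply {K : Type*} [Field K] (f : F →+* K) (g : GL ι F) (i j : ι) :
    ((Matrix.GeneralLinearGroup.map f g : GL ι K) : Matrix ι ι K) i j = f ((g : Matrix ι ι F) i j) := rfl

theorem ext_mat {G : Subgroup (GL ι F)} {g h : ↥G}
    (H : ∀ i j, ((g : GL ι F) : Matrix ι ι F) i j = ((h : GL ι F) : Matrix ι ι F) i j) : g = h :=
  Subtype.ext (Units.ext (Matrix.ext H))

theorem map_injective {K : Type*} [Field K] (f : F →+* K) :
    Function.Injective (Matrix.GeneralLinearGroup.map f : GL ι F →* GL ι K) := by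
  intro g h hgh
  refine Units.ext (Matrix.ext fun i j => f.injective ?_)
  rw [← map_apply f g, ← map_apply f h, hgh]

/-- The field automorphisms of a matrix group. -/
def fieldAut {G : Subgroup (GL ι F)} (hG : Stab G) : (F ≃+* F) →* MulAut ↥G where
  toFun σ :=
    { toFun := fun g => ⟨Matrix.GeneralLinearGroup.map (σ : F →+* F) g.1, hG σ g.1 g.2⟩
      invFun := fun g => ⟨Matrix.GeneralLinearGroup.map (σ.symm : F →+* F) g.1, hG σ.symm g.1 g.2⟩
      left_inv := fun g => ext_mat fun i j => σ.symm_apply_apply _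
      right_inv := fun g => ext_mat fun i j => σ.apply_symm_apply _
      map_mul' := fun g h => Subtype.ext (map_mul _ _ _) }
  map_one' := by
    ext1 g
    exact ext_mat fun i j => rfl
  map_mul' σ τ := by
    ext1 g
    exact ext_mat fun i j => rfl

theorem fieldAut_apply {G : Subgroup (GL ι F)} (hG : Stab G) (σ : F ≃+* F) (g : ↥G) (i j : ι) :
    ((fieldAut hG σ g : GL ι F) : Matrix ι ι F) i j = σ (((g : GL ι F) : Matrix ι ι F) i j) := rfl

theorem coe_fieldAut {G : Subgroup (GL ι F)} (hG : Stab G) (σ : F ≃+* F) (g : ↥G) :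
    (fieldAut hG σ g : GL ι F) = Matrix.GeneralLinearGroup.map (σ : F →+* F) g := rfl

/-- If `G` contains a family `x t` with `x t` mapped to `x (σ t)`, the field automorphisms act faithfully. -/
theorem fieldAut_injective {G : Subgroup (GL ι F)} (hG : Stab G) (x : F → ↥G) (hx : Function.Injective x)
    (h : ∀ σ t, fieldAut hG σ (x t) = x (σ t)) : Function.Injective (fieldAut hG) := by
  intro σ τ hστ
  refine RingEquiv.ext fun t => hx ?_
  rw [← h, ← h, hστ]

/-- The field of fixed elements. -/
def Fx (σ : F ≃+* F) : Subfield F := (σ : F →+* F).eqLocusField (RingHom.id F)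

theorem mem_Fx {σ : F ≃+* F} {x : F} : x ∈ Fx σ ↔ σ x = x := Iff.rfl

theorem pow_fixed {σ : F ≃+* F} {x : F} (h : σ x = x) (k : ℕ) : (σ ^ k) x = x := by
  induction k with
  | zero => rfl
  | succ k ih => rw [pow_succ, RingAut.mul_apply, h, ih]

theorem card_Fx [Finite F] (σ : F ≃+* F) : Nat.card F = Nat.card ↥(Fx σ) ^ orderOf σ := by
  classical
  let H : Subgroup (F ≃+* F) := Subgroup.zpowers σ
  have hfin : Finite (F ≃+* F) := Finite.of_injective (fun f : F ≃+* F => (f : F → F)) DFunLike.coe_injective
  have hE : Fx σ = FixedPoints.subfield H F := by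
    ext x
    rw [mem_Fx]
    constructor
    · rintro h ⟨τ, hτ⟩
      obtain ⟨k, rfl⟩ := (mem_powers_iff_mem_zpowers.2 hτ)
      exact pow_fixed h k
    · intro h
      exact h ⟨σ, Subgroup.mem_zpowers σ⟩
  rw [hE]
  have : Fintype H := Fintype.ofFinite _
  have h1 : Module.finrank (FixedPoints.subfield H F) F = Fintype.card H := FixedPoints.finrank_eq_card H F
  have h2 : Nat.card F = Nat.card (FixedPoints.subfield H F) ^ Module.finrank (FixedPoints.subfield H F) F :=
    Module.natCard_eq_pow_finrank
  rw [h2, h1, ← Nat.card_eq_fintype_card, Nat.card_zpowers]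

/-- fixed elements have entries in the fixed field -/
theorem fixed_iff {G : Subgroup (GL ι F)} (hG : Stab G) (σ : F ≃+* F) (g : ↥G) :
    fieldAut hG σ g = g ↔ ∀ i j, ((g : GL ι F) : Matrix ι ι F) i j ∈ Fx σ := by
  constructor
  · intro h i j
    rw [mem_Fx, ← fieldAut_apply hG, h]
  · intro h
    exact ext_mat fun i j => by rw [fieldAut_apply]; exact h i j

/-- The image of a matrix group over the fixed field is fixed. -/
theorem map_fixed (σ : F ≃+* F) (g : GL ι ↥(Fx σ)) :
    Matrix.GeneralLinearGroup.map (σ : F →+* F) (Matrix.GeneralLinearGroup.map (Fx σ).subtype g) =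
      Matrix.GeneralLinearGroup.map (Fx σ).subtype g := by
  refine Units.ext (Matrix.ext fun i j => ?_)
  exact ((g : Matrix ι ι ↥(Fx σ)) i j).2

/-- a matrix with entries in the fixed field comes from the fixed field -/
theorem exists_map (σ : F ≃+* F) (g : GL ι F) (h : ∀ i j, (g : Matrix ι ι F) i j ∈ Fx σ) :
    ∃ g₀ : GL ι ↥(Fx σ), Matrix.GeneralLinearGroup.map (Fx σ).subtype g₀ = g := by
  have h1 : Matrix.GeneralLinearGroup.map (σ : F →+* F) g = g :=
    Units.ext (Matrix.ext fun i j => h i j)
  have h2 : ∀ i j, ((g⁻¹ : GL ι F) : Matrix ι ι F) i j ∈ Fx σ := by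
    intro i j
    have h3 : Matrix.GeneralLinearGroup.map (σ : F →+* F) g⁻¹ = g⁻¹ := by rw [map_inv, h1]
    rw [mem_Fx]
    exact congrArg (fun x : GL ι F => (x : Matrix ι ι F) i j) h3
  let A : Matrix ι ι ↥(Fx σ) := Matrix.of fun i j => ⟨(g : Matrix ι ι F) i j, h i j⟩
  let B : Matrix ι ι ↥(Fx σ) := Matrix.of fun i j => ⟨((g⁻¹ : GL ι F) : Matrix ι ι F) i j, h2 i j⟩
  have hA : A.map (Fx σ).subtype = (g : Matrix ι ι F) := Matrix.ext fun i j => rfl
  have hB : B.map (Fx σ).subtype = ((g⁻¹ : GL ι F) : Matrix ι ι F) := Matrix.ext fun i j => rfl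
  have hinj : Function.Injective (fun M : Matrix ι ι ↥(Fx σ) => M.map (Fx σ).subtype) :=
    Matrix.map_injective (Fx σ).subtype.injective
  refine ⟨⟨A, B, hinj ?_, hinj ?_⟩, Units.ext hA⟩
  · show (A * B).map (Fx σ).subtype = (1 : Matrix ι ι ↥(Fx σ)).map (Fx σ).subtype
    rw [Matrix.map_mul, hA, hB, g.mul_inv, Matrix.map_one _ (map_zero _) (map_one _)]
  · show (B * A).map (Fx σ).subtype = (1 : Matrix ι ι ↥(Fx σ)).map (Fx σ).subtype
    rw [Matrix.map_mul, hA, hB, g.inv_mul, Matrix.map_one _ (map_zero _) (map_one _)]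

/-- The Frobenius automorphism generates: a finite field with `p ^ n` elements has an automorphism of order `n`. -/
theorem exists_ringAut (p n : ℕ) [Fact p.Prime] [CharP F p] [Fintype F]
    (hF : Fintype.card F = p ^ n) : ∃ τ : F ≃+* F, orderOf τ = n := by
  let _ : Algebra (ZMod p) F := ZMod.algebra F p
  let e : (F ≃ₐ[ZMod p] F) →* (F ≃+* F) :=
    { toFun := fun τ => τ.toRingEquiv
      map_one' := rfl
      map_mul' := fun _ _ => rfl }
  have he : Function.Injective e := by
    intro a b h
    ext x
    exact congrArg (fun f : F ≃+* F => f x) h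
  have h1 : Nat.card (F ≃ₐ[ZMod p] F) = n := by
    rw [IsGalois.card_aut_eq_finrank]
    have h1 := Module.card_eq_pow_finrank (K := ZMod p) (V := F)
    rw [hF, ZMod.card] at h1
    exact (Nat.pow_right_injective (Fact.out : p.Prime).two_le h1).symm
  have hc : IsCyclic (F ≃ₐ[ZMod p] F) := inferInstance
  obtain ⟨g, hg⟩ := hc.exists_generator
  refine ⟨e g, ?_⟩
  rw [orderOf_injective e he, ← h1]
  exact orderOf_eq_card_of_forall_mem_zpowers hg

end Cfsg.Agent.H967.CopMat
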