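import Mathlib
import Cfsg.Agent.H967.CopSec
import Cfsg.Agent.H254.CopCard_m3
import Cfsg.Agent.ChevStructure.FieldMap
import Cfsg.Agent.Schreier.Chev
import Cfsg.Agent.S2121
import Cfsg.Agent.S2122
import Cfsg.Agent.S2123
import Cfsg.Agent.S2124
import Cfsg.Agent.S2125
import Cfsg.Agent.S1059
import Cfsg.Agent.S1062
import Cfsg.Agent.S1063
import Cfsg.Agent.S1064
import Cfsg.Agent.Prune
set_option linter.all false
prune_inst 0x7f00000000000000000000000000000000000000000000000000000000000000000000000000000000000000000000000000000000000000000000000000000000000000000000000000000000000000003fffffffffffffffffffffffffffbeffbdffffffff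
open scoped Cfsg.Agent.FastGrp

/-!
# Coprime automorphisms of the Chevalley groups of type `G₂`, `F₄`, `E₆`, `E₇`, `E₈`
-/

set_option autoImplicit false

open scoped Pointwise

namespace Cfsg.Agent.H967.CopChev

open Cfsg.Lie Cfsg.Agent.H967.CopMat Cfsg.Agent.H967.CopRow Cfsg.Agent.ChevStructure.FieldMap
  Cfsg.Agent.ChevalleyStructure Cfsg.Agent.ChevalleyStructure.Elts

/-- Homomorphisms of fields induce homomorphisms of Chevalley groups. -/
theorem map_group_le (D : ChevalleyDatum) {F : Type*} [Field F] {K : Type*} [Field K] (f : F →+* K) :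
    (D.group F).map (Matrix.GeneralLinearGroup.map f) ≤ D.group K := by
  unfold ChevalleyDatum.group
  rw [MonoidHom.map_closure]
  refine Subgroup.closure_mono ?_
  rintro _ ⟨g, ⟨r, t, h⟩, rfl⟩
  refine ⟨r, f t, ?_⟩
  show (g : Matrix D.Idx D.Idx F).map f = _
  rw [h]
  exact xMat_map D f r t

/-- Homomorphisms of fields and words. -/
theorem map_genSubgroup_le (D : ChevalleyDatum) {F : Type*} [Field F] {K : Type*} [Field K] (f : F →+* K)
    {S₀ : Set (List (ℕ × F))} {S : Set (List (ℕ × K))} (h : ∀ w ∈ S₀, (w.map fun p => (p.1, f p.2)) ∈ S) :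
    (D.genSubgroup F S₀).map (Matrix.GeneralLinearGroup.map f) ≤ D.genSubgroup K S := by
  unfold ChevalleyDatum.genSubgroup
  rw [MonoidHom.map_closure]
  refine Subgroup.closure_mono ?_
  rintro _ ⟨g, ⟨w, hw, hg⟩, rfl⟩
  refine ⟨_, h w hw, ?_⟩
  show (g : Matrix D.Idx D.Idx F).map f = _
  rw [hg]
  exact wordMat_map D f w

theorem stab_group (D : ChevalleyDatum) (F : Type*) [Field F] : Stab (D.group F) := fun σ g hg =>
  map_group_le D (σ : F →+* F) ⟨g, hg, rfl⟩

theorem stab_genSubgroup (D : ChevalleyDatum) {F : Type*} [Field F] {S : Set (List (ℕ × F))}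
    (h : ∀ σ : F ≃+* F, ∀ w ∈ S, (w.map fun p => (p.1, σ p.2)) ∈ S) : Stab (D.genSubgroup F S) := fun σ g hg =>
  map_genSubgroup_le D (σ : F →+* F) (h σ) ⟨g, hg, rfl⟩

theorem inj_group {D : ChevalleyDatum} (hD : InList D) (h0 : 0 < D.nroots) (F : Type*) [Field F] :
    Function.Injective (fieldAut (stab_group D F)) := by
  refine fieldAut_injective _ (fun t => ⟨xG hD 0 t, xG_mem_group hD 0 t⟩) ?_ ?_
  · intro t s hts
    exact xG_injective hD h0 (congrArg Subtype.val hts)
  · intro σ t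
    apply Subtype.ext
    refine Units.ext ?_
    show (D.x F 0 t).map (σ : F →+* F) = D.x F 0 (σ t)
    exact x_map D (σ : F →+* F) 0 t

theorem nroots_pos {D : ChevalleyDatum} (hD : InList D) : 0 < D.nroots := by
  simp only [InList, List.mem_cons, List.not_mem_nil, or_false] at hD
  rcases hD with rfl | rfl | rfl | rfl | rfl | rfl | rfl <;> decide

/-- The order of the field is a power of the characteristic. -/
theorem exists_char (F : Type*) [Field F] [Fintype F] :
    ∃ p f : ℕ, p.Prime ∧ CharP F p ∧ 1 ≤ f ∧ Fintype.card F = p ^ f := by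
  obtain ⟨p, hp⟩ := CharP.exists F
  obtain ⟨n, hpp, hn⟩ := FiniteField.card F p
  exact ⟨p, n, hpp, hp, n.pos, hn⟩

/-- The row of a Chevalley group from the order of the outer automorphism group. -/
theorem row_of_card {D : ChevalleyDatum} (hD : InList D) {F : Type*} [Field F] [Fintype F] {p f c : ℕ} [Fact p.Prime]
    [CharP F p] (hF : Fintype.card F = p ^ f) (hs : Schreier.Basic.Sch ↥(D.group F))
    (hc : Nat.card (Cfsg.Out ↥(D.group F)) ∣ c * f) (hcr : ∀ r : ℕ, r.Prime → r ∣ c → r ∣ Nat.card ↥(D.group F)) :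
    Row (D.group F) := by
  obtain ⟨τ, hτ⟩ := exists_ringAut p f hF
  refine Row.of_out (stab_group D F) (inj_group hD (nroots_pos hD) F) (H254.isSolvable_out_of_sch hs) τ hτ ?_
  intro r hr hrn k hk
  have h1 : (r ^ k).Coprime c := by
    apply Nat.Coprime.pow_left
    rw [hr.coprime_iff_not_dvd]
    exact fun h => hrn (hcr r hr h)
  exact h1.dvd_of_dvd_mul_left (hk.trans hc)

/-! ### The five types -/

theorem two_dvd_mul {q : ℕ} : 2 ∣ q * (q ^ 2 - 1) := by
  rcases Nat.even_or_odd q with h | h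
  · exact h.two_dvd.mul_right _
  · have h1 : Odd (q ^ 2) := h.pow
    have h2 : Even (q ^ 2 - 1) := Nat.Odd.sub_odd h1 odd_one
    exact h2.two_dvd.mul_left _

theorem two_dvd_of {q a M : ℕ} (ha : a ≠ 0) : 2 ∣ q ^ a * (q ^ 2 - 1) * M := by
  obtain ⟨b, rfl⟩ := Nat.exists_eq_succ_of_ne_zero ha
  have h := two_dvd_mul (q := q)
  have h1 : q ^ b.succ * (q ^ 2 - 1) * M = (q * (q ^ 2 - 1)) * (q ^ b * M) := by rw [pow_succ]; ring
  rw [h1]
  exact h.mul_right _

variable {F : Type*} [Field F] [Fintype F]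

theorem row_g2 [IsSimpleGroup ↥(chevG2.group F)] (h3 : 3 ≤ Fintype.card F) : Row (chevG2.group F) := by
  obtain ⟨p, f, hp, hc, hf, hF⟩ := exists_char F
  have : Fact p.Prime := ⟨hp⟩
  refine row_of_card (c := 2) (by simp) hF (Schreier.Chev.sch_g2 F) ?_ ?_
  · rw [S2121.result p f hF (by rw [← hF]; exact h3)]
    split_ifs
    · exact dvd_rfl
    · exact dvd_mul_left _ _
  · intro r hr h
    rw [(Nat.prime_dvd_prime_iff_eq hr Nat.prime_two).1 h, S1059.result rfl]
    exact two_dvd_of (by norm_num)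

theorem row_f4 [IsSimpleGroup ↥(chevF4.group F)] : Row (chevF4.group F) := by
  obtain ⟨p, f, hp, hc, hf, hF⟩ := exists_char F
  have : Fact p.Prime := ⟨hp⟩
  refine row_of_card (c := 2) (by simp) hF (Schreier.Chev.sch_f4 F) ?_ ?_
  · rw [S2122.result p f hF]
    exact mul_dvd_mul_right (Nat.gcd_dvd_left _ _) _
  · intro r hr h
    rw [(Nat.prime_dvd_prime_iff_eq hr Nat.prime_two).1 h, S1062.result rfl]
    simp only [mul_assoc]
    rw [← mul_assoc]
    exact two_dvd_of (by norm_num)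

theorem row_e6 [IsSimpleGroup ↥(chevE6.group F)] : Row (chevE6.group F) := by
  obtain ⟨p, f, hp, hc, hf, hF⟩ := exists_char F
  have : Fact p.Prime := ⟨hp⟩
  have hcard := S1063.result (F := F) (q := p ^ f) hF
  have hq1 : 1 < p ^ f := hF ▸ Fintype.one_lt_card
  refine row_of_card (c := 2 * Nat.gcd 3 (p ^ f - 1)) (by simp) hF (Schreier.Chev.sch_e6 F) ?_ ?_
  · rw [S2123.result p f hF]
  · intro r hr h
    rcases (hr.dvd_mul).1 h with h | h
    · rw [(Nat.prime_dvd_prime_iff_eq hr Nat.prime_two).1 h]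
      have h1 : 2 ∣ Nat.gcd 3 (p ^ f - 1) * Nat.card ↥(chevE6.group F) := by
        rw [hcard]
        simp only [mul_assoc]
        rw [← mul_assoc]
        exact two_dvd_of (by norm_num)
      rcases (Nat.prime_two.dvd_mul).1 h1 with h2 | h2
      · have h3 := h2.trans (Nat.gcd_dvd_left _ _)
        omega
      · exact h2
    · have h3 : r = 3 := (Nat.prime_dvd_prime_iff_eq hr Nat.prime_three).1 (h.trans (Nat.gcd_dvd_left _ _))
      subst h3
      have h4 : 3 ∣ p ^ f - 1 := h.trans (Nat.gcd_dvd_right _ _)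
      rw [Nat.gcd_eq_left h4] at hcard
      have h5 : ∀ k, 3 ∣ (p ^ f) ^ k - 1 := fun k => by
        have := Nat.sub_dvd_pow_sub_pow (p ^ f) 1 k
        rw [one_pow] at this
        exact h4.trans this
      obtain ⟨a, ha⟩ := h5 2
      obtain ⟨b, hb⟩ := h5 5
      rw [ha, hb] at hcard
      refine ⟨(p ^ f) ^ 36 * a * b * ((p ^ f) ^ 6 - 1) * ((p ^ f) ^ 8 - 1) * ((p ^ f) ^ 9 - 1) * ((p ^ f) ^ 12 - 1), ?_⟩
      refine Nat.eq_of_mul_eq_mul_left (show 0 < 3 by norm_num) ?_
      rw [hcard]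
      ring

theorem row_e7 [IsSimpleGroup ↥(chevE7.group F)] : Row (chevE7.group F) := by
  obtain ⟨p, f, hp, hc, hf, hF⟩ := exists_char F
  have : Fact p.Prime := ⟨hp⟩
  have hcard := S1064.result (F := F) (q := p ^ f) hF
  have hq1 : 1 < p ^ f := hF ▸ Fintype.one_lt_card
  refine row_of_card (c := Nat.gcd 2 (p ^ f - 1)) (by simp) hF (Schreier.Chev.sch_e7 F) ?_ ?_
  · rw [S2124.result p f hF]
  · intro r hr h
    have h3 : r = 2 := (Nat.prime_dvd_prime_iff_eq hr Nat.prime_two).1 (h.trans (Nat.gcd_dvd_left _ _))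
    subst h3
    have h4 : 2 ∣ p ^ f - 1 := h.trans (Nat.gcd_dvd_right _ _)
    rw [Nat.gcd_eq_left h4] at hcard
    have h5 : ∀ k, 2 ∣ (p ^ f) ^ k - 1 := fun k => by
      have := Nat.sub_dvd_pow_sub_pow (p ^ f) 1 k
      rw [one_pow] at this
      exact h4.trans this
    obtain ⟨a, ha⟩ := h5 2
    obtain ⟨b, hb⟩ := h5 6
    rw [ha, hb] at hcard
    refine ⟨(p ^ f) ^ 63 * a * b * ((p ^ f) ^ 8 - 1) * ((p ^ f) ^ 10 - 1) * ((p ^ f) ^ 12 - 1) * ((p ^ f) ^ 14 - 1) *
      ((p ^ f) ^ 18 - 1), ?_⟩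
    refine Nat.eq_of_mul_eq_mul_left (show 0 < 2 by norm_num) ?_
    rw [hcard]
    ring

theorem row_e8 [IsSimpleGroup ↥(chevE8.group F)] : Row (chevE8.group F) := by
  obtain ⟨p, f, hp, hc, hf, hF⟩ := exists_char F
  have : Fact p.Prime := ⟨hp⟩
  refine row_of_card (c := 1) (by simp) hF (Schreier.Chev.sch_e8 F) ?_ ?_
  · rw [S2125.result p f hF, one_mul]
  · intro r hr h
    exact absurd (Nat.dvd_one.1 h) hr.one_lt.ne'

end Cfsg.Agent.H967.CopChev
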