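import Mathlib
import Cfsg.Agent.H60.TRowTwF4
import Cfsg.Agent.H565.CopTw
import Cfsg.Agent.H967.CopSec
import Cfsg.Agent.ChevalleyStructure.SignedSymm
import Cfsg.Agent.ChevalleyStructure.D4Cols
import Cfsg.Agent.H254.CopCard_m3
import Cfsg.Agent.S1162
import Cfsg.Agent.Transfer.FusionBasic
import Cfsg.Agent.ClosedTwo.Elem
import Cfsg.Agent.Lib.FieldAutCard
import Cfsg.Agent.H71.ReeOut
import Cfsg.Agent.H362.ReeField
import Cfsg.Agent.S1073
import Cfsg.Agent.S1075
import Cfsg.Agent.FastGrp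
import Cfsg.Agent.Prune
set_option linter.all false

section
prune_inst 0x7ffcbcffaff8cddedfff7e7ffedddffff8f87fffffdffbcbbfe8a1ef2fdf6b0ef9e56bad9fe842ff0ee2629630f87b13fdffceffee6bdc7ffffd5ff45ffbff8fedf7bd88519788340fbc0ff703f0778e7f3fffffffffffffffffffffffffffbeffffffffffff

-- part: H967/CopTw
section
set_option linter.all false
open scoped Cfsg.Agent.FastGrp

/-!
# Coprime automorphisms of `³D₄(q)`, `²E₆(q)`
-/

set_option autoImplicit false

open scoped Pointwise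

namespace Cfsg.Agent.H967.CopTw

open Cfsg.Lie Cfsg.Agent.H967.CopMat Cfsg.Agent.H967.CopRow Cfsg.Agent.H967.CopChev Cfsg.Agent.H967.CopSz

universe u

variable {K : Type u} [Field K]

theorem stab_d4 (q : ℕ) : Stab (twistedD4 K q) := by
  refine stab_genSubgroup chevD4 ?_
  rintro σ w (⟨t, ht, r, hr, rfl⟩ | ⟨t, rs, hrs, rfl⟩)
  · left
    exact ⟨σ t, by rw [← map_pow, ht], r, hr, rfl⟩
  · right
    exact ⟨σ t, rs, hrs, by simp⟩

theorem stab_e6 (q : ℕ) : Stab (twistedE6 K q) := by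
  refine stab_genSubgroup chevE6 ?_
  rintro σ w (⟨t, ht, r, hr, rfl⟩ | ⟨t, rs, hrs, rfl⟩)
  · left
    exact ⟨σ t, by rw [← map_pow, ht], r, hr, rfl⟩
  · right
    exact ⟨σ t, rs, hrs, by simp⟩

variable [Fintype K] {q : ℕ}

section D4

open Cfsg.Agent.ChevalleyStructure Cfsg.Agent.KFacts.TwDFour.Out Cfsg.Agent.H69.OutTwD4

theorem inj_d4 (hq : IsPrimePow q) (hK : Fintype.card K = q ^ 3) : Function.Injective (fieldAut (stab_d4 (K := K) q)) := by
  obtain ⟨φ, hφ⟩ := D4Fixed.exists_frob hq hK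
  obtain ⟨p, hp⟩ := CharP.exists K
  have : Fact p.Prime := ⟨CharP.char_is_prime K p⟩
  have h : ∀ τ : K ≃+* K, fieldAut (stab_d4 q) τ = st q τ := fun τ => rfl
  intro σ τ hστ
  rw [h, h] at hστ
  have h1 := dtau_st hφ hK σ CoxeterMatrix.G₂.toCoxeterSystem p
  have h2 := dtau_st hφ hK τ CoxeterMatrix.G₂.toCoxeterSystem p
  rw [hστ] at h1
  exact h1.unique hφ hK h2

theorem row_d4 (hq : IsPrimePow q) (hK : Fintype.card K = q ^ 3) : Row (twistedD4 K q) := by
  obtain ⟨p, f, hp, hc, hf, rfl, hK'⟩ := Cfsg.Agent.H565.CopTw.exists_params hq hK (by norm_num)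
  have : Fact p.Prime := ⟨hp⟩
  obtain ⟨τ, hτ⟩ := exists_ringAut p (3 * f) hK'
  refine Row.of_out (stab_d4 _) (inj_d4 hq hK) (H254.isSolvable_out_of_sch (Cfsg.Agent.Schreier.TwDFour.sch hq hK)) τ hτ ?_
  intro r _ _ k hk
  rwa [S2129.result p f hK' hf] at hk

end D4

section E6

open Cfsg.Agent.ChevalleyStructure Cfsg.Agent.KFacts.TwESix.Out Cfsg.Agent.KFacts.TwESix.OutTwo Cfsg.Agent.CpAut.RgdTwE6

theorem inj_e6 (hq : IsPrimePow q) (hK : Fintype.card K = q ^ 2) : Function.Injective (fieldAut (stab_e6 (K := K) q)) := by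
  obtain ⟨φ, hφ, hqq⟩ := TwE6Basic.exists_frob hq hK
  obtain ⟨p, hp⟩ := CharP.exists K
  have : Fact p.Prime := ⟨CharP.char_is_prime K p⟩
  have h : ∀ τ : K ≃+* K, fieldAut (stab_e6 q) τ = st q τ := fun τ => rfl
  intro σ τ hστ
  rw [h, h] at hστ
  have key : ∀ τ : K ≃+* K, FTau hφ hqq (st q τ) τ := fun τ => by
    have h1 := ntau_st hφ hqq τ CoxeterMatrix.F₄.toCoxeterSystem p
    exact ⟨h1.diag, fun i t ht => congrArg Subtype.val (h1.char i t ht)⟩
  have h1 := key σ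
  rw [hστ] at h1
  exact h1.unique hφ hqq (key τ)

theorem row_2e6 (hq : IsPrimePow q) (hK : Fintype.card K = q ^ 2) (hs : Schreier.Basic.Sch ↥(twistedE6 K q)) :
    Row (twistedE6 K q) := by
  obtain ⟨p, f, hp, hc, hf, rfl, hK'⟩ := Cfsg.Agent.H565.CopTw.exists_params hq hK (by norm_num)
  have : Fact p.Prime := ⟨hp⟩
  obtain ⟨τ, hτ⟩ := exists_ringAut p (2 * f) hK'
  refine Row.of_out (stab_e6 _) (inj_e6 hq hK) (H254.isSolvable_out_of_sch hs) τ hτ ?_
  intro r hr hrn k hk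
  rw [S2130.result p f hK' hf] at hk
  have h2 : 2 * Nat.gcd 3 (p ^ f + 1) * f = Nat.gcd 3 (p ^ f + 1) * (2 * f) := by ring
  rw [h2] at hk
  have h1 : (r ^ k).Coprime (Nat.gcd 3 (p ^ f + 1)) := by
    apply Nat.Coprime.pow_left
    rw [hr.coprime_iff_not_dvd]
    intro h
    have h3 : r = 3 := (Nat.prime_dvd_prime_iff_eq hr Nat.prime_three).1 (h.trans (Nat.gcd_dvd_left _ _))
    subst h3
    have h4 := S1102.result (K := K) hq hK
    have h5 : Nat.gcd 3 (p ^ f + 1) = 3 := Nat.gcd_eq_left (h.trans (Nat.gcd_dvd_right _ _))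
    rw [h5] at h4
    apply hrn
    have h6 : 3 ∣ Nat.card ↥(chevE6.diagonalSubgroup K ⊓ twistedE6 K (p ^ f)) := by
      obtain ⟨a, ha⟩ := h.trans (Nat.gcd_dvd_right _ _)
      refine ⟨(p ^ f - 1) ^ 4 * a ^ 2, ?_⟩
      have h7 : 3 * Nat.card ↥(chevE6.diagonalSubgroup K ⊓ twistedE6 K (p ^ f)) =
          3 * (3 * ((p ^ f - 1) ^ 4 * a ^ 2)) := by
        rw [h4, ha]; ring
      exact Nat.eq_of_mul_eq_mul_left (by norm_num) h7
    exact h6.trans (Subgroup.card_dvd_of_le inf_le_right)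
  exact h1.dvd_of_dvd_mul_left hk

end E6

end Cfsg.Agent.H967.CopTw
end

-- part: H967/CopCycAll
section
set_option linter.all false
open scoped Cfsg.Agent.FastGrp

/-!
# Coprime groups of automorphisms of the exceptional groups of Lie type are cyclic
-/

set_option autoImplicit false

open scoped Pointwise

namespace Cfsg.Agent.H967.CopCycAll

open Cfsg.Lie Cfsg.Agent.H254 Cfsg.Agent.H967.CopMat Cfsg.Agent.H967.CopRow

/-- the subgroups of order prime to the order of the group are cyclic -/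
theorem copCyc_of_row {ι : Type*} [Fintype ι] [DecidableEq ι] {F : Type*} [Field F] {G : Subgroup (GL ι F)}
    (R : Row G) : CopCyc ↥G := by
  intro A hA
  obtain ⟨g, σ, h⟩ := R.conj A hA
  have h1 : IsCyclic ↥(MulAut.conj g • A) := by rw [h]; infer_instance
  exact isCyclic_of_surjective (Subgroup.equivSMul (MulAut.conj g) A).symm
    (Subgroup.equivSMul (MulAut.conj g) A).symm.surjective

theorem simple_of_equiv {K : Type*} [Group K] [IsSimpleGroup K] {G : Type*} [Group G] (e : K ≃* G) :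
    IsSimpleGroup G := by
  have h1 : Nontrivial G := e.symm.toEquiv.nontrivial
  exact IsSimpleGroup.isSimpleGroup_of_surjective e.toMonoidHom e.surjective

variable {K : Type*} [Group K]

theorem copCyc_g2 [IsSimpleGroup K] (h : IsoChevG2 K) : CopCyc K := by
  obtain ⟨F, _, _, h3, ⟨e⟩⟩ := h
  have := simple_of_equiv e
  exact CopCyc.of_equiv e.symm (copCyc_of_row (CopChev.row_g2 h3))

theorem copCyc_f4 [IsSimpleGroup K] (h : IsoF4 K) : CopCyc K := by
  obtain ⟨F, _, _, ⟨e⟩⟩ := h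
  have := simple_of_equiv e
  exact CopCyc.of_equiv e.symm (copCyc_of_row CopChev.row_f4)

theorem copCyc_e6 [IsSimpleGroup K] (h : IsoChevE6 K) : CopCyc K := by
  obtain ⟨F, _, _, ⟨e⟩⟩ := h
  have := simple_of_equiv e
  exact CopCyc.of_equiv e.symm (copCyc_of_row CopChev.row_e6)

theorem copCyc_e7 [IsSimpleGroup K] (h : IsoE7 K) : CopCyc K := by
  obtain ⟨F, _, _, ⟨e⟩⟩ := h
  have := simple_of_equiv e
  exact CopCyc.of_equiv e.symm (copCyc_of_row CopChev.row_e7)

theorem copCyc_e8 [IsSimpleGroup K] (h : IsoE8 K) : CopCyc K := by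
  obtain ⟨F, _, _, ⟨e⟩⟩ := h
  have := simple_of_equiv e
  exact CopCyc.of_equiv e.symm (copCyc_of_row CopChev.row_e8)

theorem copCyc_sz (h : IsoSuzuki K) : CopCyc K := by
  obtain ⟨F, _, _, m, hm, hF, ⟨e⟩⟩ := h
  exact CopCyc.of_equiv e.symm (copCyc_of_row (CopSz.row_sz hm hF))

theorem copCyc_ree (h : IsoRee K) : CopCyc K := by
  obtain ⟨F, _, _, m, hm, hF, ⟨e⟩⟩ := h
  exact CopCyc.of_equiv e.symm (copCyc_of_row (CopSz.row_ree hm hF))

theorem copCyc_tf4 (h : Iso2F4 K) : CopCyc K := by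
  obtain ⟨F, _, _, m, hm, hF, ⟨e⟩⟩ := h
  exact CopCyc.of_equiv e.symm (copCyc_of_row (CopSz.row_tf4 hm hF))

end Cfsg.Agent.H967.CopCycAll
end

-- part: H967/CopFix
section
prune_inst 0x34300500732212000018001020000070780000000003040135a10900080f1040a00006017b900901588698c0700c002003100000420000000a00300000070120800052040244a00026008f009884000000000000000000000000000000041000000000000
set_option linter.all false
open scoped Cfsg.Agent.FastGrp

/-!
# The fixed points of coprime automorphisms of the exceptional groups of Lie type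

`fix_xxx` : `K ≃* X(F)`, `α` an automorphism of `K` of order `n` prime to `#K`: there is a subfield `E` of `F` with
`#F = #E ^ n` such that `X(E)` embeds into the group of the fixed points of `α`.
-/

set_option autoImplicit false

namespace Cfsg.Agent.H967.CopFix

open Cfsg.Lie Cfsg.Agent.H967.CopMat Cfsg.Agent.H967.CopRow Cfsg.Agent.H967.CopSec Cfsg.Agent.H967.CopChev
  Cfsg.Agent.H967.CopSz Cfsg.Agent.H967.CopTw Cfsg.Agent.H967.CopCycAll

/-! ### Chevalley groups -/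

section Chev

variable {F : Type*} [Field F] [Fintype F] {K : Type*} [Group K] [IsSimpleGroup K]

theorem fix_group {D : ChevalleyDatum} (R : Row (D.group F)) {K : Type*} [Group K] (e : K ≃* ↥(D.group F))
    (α : MulAut K) (hα : (orderOf α).Coprime (Nat.card K)) :
    ∃ E : Subfield F, Nat.card F = Nat.card ↥E ^ orderOf α ∧
      ∃ f : ↥(D.group ↥E) →* K, Function.Injective f ∧ ∀ x, α (f x) = f x :=
  Row.fix R e α hα (fun E => D.group ↥E) fun E _ => map_group_le D E.subtype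

theorem fix_g2 (h3 : 3 ≤ Fintype.card F) (e : K ≃* ↥(chevG2.group F)) (α : MulAut K)
    (hα : (orderOf α).Coprime (Nat.card K)) :
    ∃ E : Subfield F, Nat.card F = Nat.card ↥E ^ orderOf α ∧
      ∃ f : ↥(chevG2.group ↥E) →* K, Function.Injective f ∧ ∀ x, α (f x) = f x := by
  have := simple_of_equiv e
  exact fix_group (row_g2 h3) e α hα

theorem fix_f4 (e : K ≃* ↥(chevF4.group F)) (α : MulAut K) (hα : (orderOf α).Coprime (Nat.card K)) :
    ∃ E : Subfield F, Nat.card F = Nat.card ↥E ^ orderOf α ∧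
      ∃ f : ↥(chevF4.group ↥E) →* K, Function.Injective f ∧ ∀ x, α (f x) = f x := by
  have := simple_of_equiv e
  exact fix_group row_f4 e α hα

theorem fix_e6 (e : K ≃* ↥(chevE6.group F)) (α : MulAut K) (hα : (orderOf α).Coprime (Nat.card K)) :
    ∃ E : Subfield F, Nat.card F = Nat.card ↥E ^ orderOf α ∧
      ∃ f : ↥(chevE6.group ↥E) →* K, Function.Injective f ∧ ∀ x, α (f x) = f x := by
  have := simple_of_equiv e
  exact fix_group row_e6 e α hα

theorem fix_e7 (e : K ≃* ↥(chevE7.group F)) (α : MulAut K) (hα : (orderOf α).Coprime (Nat.card K)) :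
    ∃ E : Subfield F, Nat.card F = Nat.card ↥E ^ orderOf α ∧
      ∃ f : ↥(chevE7.group ↥E) →* K, Function.Injective f ∧ ∀ x, α (f x) = f x := by
  have := simple_of_equiv e
  exact fix_group row_e7 e α hα

theorem fix_e8 (e : K ≃* ↥(chevE8.group F)) (α : MulAut K) (hα : (orderOf α).Coprime (Nat.card K)) :
    ∃ E : Subfield F, Nat.card F = Nat.card ↥E ^ orderOf α ∧
      ∃ f : ↥(chevE8.group ↥E) →* K, Function.Injective f ∧ ∀ x, α (f x) = f x := by
  have := simple_of_equiv e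
  exact fix_group row_e8 e α hα

end Chev

/-! ### Arithmetic -/

theorem exists_log {p N n M : ℕ} (hp : p.Prime) (hn : n ≠ 0) (h : p ^ M = N ^ n) : ∃ k, N = p ^ k ∧ k * n = M := by
  have h1 : N ∣ p ^ M := by rw [h]; exact dvd_pow_self N hn
  obtain ⟨k, -, rfl⟩ := (Nat.dvd_prime_pow hp).1 h1
  exact ⟨k, rfl, by rw [← pow_mul] at h; exact (Nat.pow_right_injective hp.two_le h).symm⟩

theorem pow_eq {E : Type*} [Field E] [Finite E] {p k m m₀ j : ℕ} (hE : Nat.card E = p ^ k) (h : m = m₀ + j * k) (x : E) :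
    x ^ p ^ m = x ^ p ^ m₀ := by
  have : Fintype E := Fintype.ofFinite E
  rw [Nat.card_eq_fintype_card] at hE
  rw [h, pow_add, pow_mul, mul_comm, pow_mul p k j, ← hE, FiniteField.pow_card_pow]

/-- The subfields of the fields of the Suzuki and Ree groups. -/
theorem exists_odd_exp {p m n N : ℕ} (hp : p.Prime) (h : p ^ (2 * m + 1) = N ^ n) :
    ∃ m₀ j : ℕ, N = p ^ (2 * m₀ + 1) ∧ m = m₀ + j * (2 * m₀ + 1) := by
  have hn : n ≠ 0 := by
    rintro rfl
    rw [pow_zero] at h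
    have := Nat.one_lt_pow (n := 2 * m + 1) (by omega) hp.one_lt
    omega
  obtain ⟨k, rfl, hk⟩ := exists_log hp hn h
  have hko : Odd k := by
    have : Odd (k * n) := by rw [hk]; exact ⟨m, rfl⟩
    exact (Nat.odd_mul.1 this).1
  have hno : Odd n := by
    have : Odd (k * n) := by rw [hk]; exact ⟨m, rfl⟩
    exact (Nat.odd_mul.1 this).2
  obtain ⟨m₀, rfl⟩ := hko
  obtain ⟨j, rfl⟩ := hno
  refine ⟨m₀, j, rfl, ?_⟩
  have h1 : 2 * m + 1 = 2 * (m₀ + j * (2 * m₀ + 1)) + 1 := by rw [← hk]; ring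
  omega

/-! ### Ree groups -/

section Ree

theorem words_g2 {E : Type*} [Field E] {F : Type*} [Field F] (f : E →+* F) (e : ℕ) :
    (twistedG2 E e).map (Matrix.GeneralLinearGroup.map f) ≤ twistedG2 F e := by
  refine map_genSubgroup_le chevG2 f ?_
  rintro w ⟨t, u, v, h⟩
  refine ⟨f t, f u, f v, ?_⟩
  rcases h with rfl | rfl
  · left; simp [reeWordU]
  · right; simp only [reeWordV, reeWordU, ChevalleyDatum.negWord, _root_.Array.getD_eq_getD_getElem?, _root_.List.map_cons, _root_.neg_add_rev, _root_.List.map_nil, _root_.map_neg, _root_.map_pow, _root_.map_add]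

theorem twistedG2_congr {E : Type*} [Field E] {e e₀ : ℕ} (h : ∀ x : E, x ^ e = x ^ e₀) :
    twistedG2 E e = twistedG2 E e₀ := by
  have h1 : ∀ t u v : E, reeWordU e t u v = reeWordU e₀ t u v := by
    intro t u v
    simp only [reeWordU, pow_succ, pow_mul', h]
  unfold twistedG2 g2Words reeWordV
  simp only [h1]

theorem words_f4 {E : Type*} [Field E] {F : Type*} [Field F] (f : E →+* F) (e : ℕ) :
    (twistedF4 E e).map (Matrix.GeneralLinearGroup.map f) ≤ twistedF4 F e := by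
  refine map_genSubgroup_le chevF4 f ?_
  rintro w (⟨t, h⟩ | ⟨t, u, h⟩)
  · left
    refine ⟨f t, ?_⟩
    rcases h with rfl | rfl
    · left; simp [f4PairWord]
    · right; simp [f4PairWord]
  · right
    refine ⟨f t, f u, ?_⟩
    rcases h with rfl | rfl
    · left; simp only [b2ClassWord, _root_.List.map_cons, _root_.map_pow, _root_.map_add, _root_.List.map_nil]
    · right; simp [b2ClassWord]

theorem twistedF4_congr {E : Type*} [Field E] {e e₀ : ℕ} (h : ∀ x : E, x ^ e = x ^ e₀) :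
    twistedF4 E e = twistedF4 E e₀ := by
  have h1 : ∀ (r s : ℕ) (t : E), f4PairWord e r s t = f4PairWord e₀ r s t := by
    intro r s t
    simp only [f4PairWord, h]
  have h2 : ∀ (r s u v : ℕ) (t w : E), b2ClassWord e r s u v t w = b2ClassWord e₀ r s u v t w := by
    intro r s u v t w
    simp only [b2ClassWord, pow_succ, pow_mul', h]
  unfold twistedF4 f4Words
  simp only [h1, h2]

variable {F : Type*} [Field F] [Fintype F] {K : Type*} [Group K] {m : ℕ}

theorem fix_ree (hm : 1 ≤ m) (hF : Fintype.card F = 3 ^ (2 * m + 1)) (e : K ≃* ↥(twistedG2 F (3 ^ m))) (α : MulAut K)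
    (hα : (orderOf α).Coprime (Nat.card K)) :
    ∃ (E : Subfield F) (m₀ : ℕ), Nat.card F = Nat.card ↥E ^ orderOf α ∧ Nat.card ↥E = 3 ^ (2 * m₀ + 1) ∧
      ∃ f : ↥(twistedG2 ↥E (3 ^ m₀)) →* K, Function.Injective f ∧ ∀ x, α (f x) = f x := by
  obtain ⟨E, hE, f, hf⟩ := Row.fix (row_ree hm hF) e α hα (fun E => twistedG2 ↥E (3 ^ m))
    fun E _ => words_g2 E.subtype _
  have hE' : 3 ^ (2 * m + 1) = Nat.card ↥E ^ orderOf α := by rw [← hE, Nat.card_eq_fintype_card, hF]
  obtain ⟨m₀, j, h1, h2⟩ := exists_odd_exp Nat.prime_three hE'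
  refine ⟨E, m₀, hE, h1, ?_⟩
  rw [← twistedG2_congr (E := ↥E) (e := 3 ^ m) (pow_eq h1 h2)]
  exact ⟨f, hf⟩

theorem fix_tf4 (hm : 1 ≤ m) (hF : Fintype.card F = 2 ^ (2 * m + 1)) (e : K ≃* ↥(twistedF4 F (2 ^ m))) (α : MulAut K)
    (hα : (orderOf α).Coprime (Nat.card K)) :
    ∃ (E : Subfield F) (m₀ : ℕ), Nat.card F = Nat.card ↥E ^ orderOf α ∧ Nat.card ↥E = 2 ^ (2 * m₀ + 1) ∧
      ∃ f : ↥(twistedF4 ↥E (2 ^ m₀)) →* K, Function.Injective f ∧ ∀ x, α (f x) = f x := by
  obtain ⟨E, hE, f, hf⟩ := Row.fix (row_tf4 hm hF) e α hα (fun E => twistedF4 ↥E (2 ^ m))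
    fun E _ => words_f4 E.subtype _
  have hE' : 2 ^ (2 * m + 1) = Nat.card ↥E ^ orderOf α := by rw [← hE, Nat.card_eq_fintype_card, hF]
  obtain ⟨m₀, j, h1, h2⟩ := exists_odd_exp Nat.prime_two hE'
  refine ⟨E, m₀, hE, h1, ?_⟩
  rw [← twistedF4_congr (E := ↥E) (e := 2 ^ m) (pow_eq h1 h2)]
  exact ⟨f, hf⟩

end Ree

/-! ### Suzuki groups -/

section Sz

open Cfsg.Agent.LieRecognition.SzMatrix

theorem map_sz {E : Type*} [Field E] {F : Type*} [Field F] (f : E →+* F) (e : ℕ) :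
    (Cfsg.Lie.Sz E e).map (Matrix.GeneralLinearGroup.map f) ≤ Cfsg.Lie.Sz F e := by
  unfold Cfsg.Lie.Sz
  rw [MonoidHom.map_closure]
  refine Subgroup.closure_mono ?_
  rintro _ ⟨g, ⟨h1, h2⟩, rfl⟩
  have h3 : ((Matrix.GeneralLinearGroup.map f g : GL (Fin 4) F) : Matrix (Fin 4) (Fin 4) F) =
      (g : Matrix (Fin 4) (Fin 4) E).map f := rfl
  have hJ : (J E).map f = J F := by
    ext i j
    (revert i j; simp only [J, _root_.Fin.forall_fin_succ, _root_.Matrix.map_apply, _root_.Matrix.of_apply, _root_.Matrix.cons_val', _root_.Matrix.cons_val_fin_one, Fin.isValue, _root_.Matrix.cons_val_zero, _root_.Matrix.cons_val_succ, _root_.forall_const, _root_.map_zero, _root_.map_one, _root_.and_self, _root_.implies_true])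
  refine ⟨?_, ?_⟩
  · rw [mem_Sp4_iff] at h1 ⊢
    rw [h3, ← Matrix.transpose_map, ← hJ, ← Matrix.map_mul, ← Matrix.map_mul, h1]
  · rw [h3]
    ext p r
    have h4 := congrFun (congrFun h2 p) r
    rw [star4_apply, Matrix.map_apply] at h4
    rw [star4_apply, Matrix.map_apply, Matrix.map_apply, Matrix.map_apply, Matrix.map_apply, Matrix.map_apply,
      Matrix.map_apply, ← map_pow, ← h4, map_sub, map_mul, map_mul]

theorem sz_congr {E : Type*} [Field E] {e e₀ : ℕ} (h : ∀ x : E, x ^ e = x ^ e₀) :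
    Cfsg.Lie.Sz E e = Cfsg.Lie.Sz E e₀ := by
  unfold Cfsg.Lie.Sz
  simp only [h]

variable {F : Type*} [Field F] [Fintype F] {K : Type*} [Group K] {m : ℕ}

theorem fix_sz (hm : 1 ≤ m) (hF : Fintype.card F = 2 ^ (2 * m + 1)) (e : K ≃* ↥(Cfsg.Lie.Sz F (2 ^ (m + 1))))
    (α : MulAut K) (hα : (orderOf α).Coprime (Nat.card K)) :
    ∃ (E : Subfield F) (m₀ : ℕ), Nat.card F = Nat.card ↥E ^ orderOf α ∧ Nat.card ↥E = 2 ^ (2 * m₀ + 1) ∧
      ∃ f : ↥(Cfsg.Lie.Sz ↥E (2 ^ (m₀ + 1))) →* K, Function.Injective f ∧ ∀ x, α (f x) = f x := by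
  obtain ⟨E, hE, f, hf⟩ := Row.fix (row_sz hm hF) e α hα (fun E => Cfsg.Lie.Sz ↥E (2 ^ (m + 1)))
    fun E _ => map_sz E.subtype _
  have hE' : 2 ^ (2 * m + 1) = Nat.card ↥E ^ orderOf α := by rw [← hE, Nat.card_eq_fintype_card, hF]
  obtain ⟨m₀, j, h1, h2⟩ := exists_odd_exp Nat.prime_two hE'
  refine ⟨E, m₀, hE, h1, ?_⟩
  rw [← sz_congr (E := ↥E) (e := 2 ^ (m + 1)) (pow_eq h1 (by rw [h2]; ring : m + 1 = m₀ + 1 + j * (2 * m₀ + 1)))]
  exact ⟨f, hf⟩

end Sz

/-! ### `²E₆(q)` -/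

section E6

theorem words_e6 {E : Type*} [Field E] {F : Type*} [Field F] (f : E →+* F) (q : ℕ) :
    (twistedE6 E q).map (Matrix.GeneralLinearGroup.map f) ≤ twistedE6 F q := by
  refine map_genSubgroup_le chevE6 f ?_
  rintro w (⟨t, ht, r, hr, rfl⟩ | ⟨t, rs, hrs, rfl⟩)
  · left
    exact ⟨f t, by rw [← map_pow, ht], r, hr, rfl⟩
  · right
    exact ⟨f t, rs, hrs, by simp⟩

theorem twistedE6_congr {E : Type*} [Field E] {e e₀ : ℕ} (h : ∀ x : E, x ^ e = x ^ e₀) :
    twistedE6 E e = twistedE6 E e₀ := by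
  unfold twistedE6 e6Words
  simp only [h]

variable {F : Type*} [Field F] [Fintype F] {K : Type*} [Group K] {q : ℕ}

theorem fix_2e6 (hq : IsPrimePow q) (hF : Fintype.card F = q ^ 2) (hs : Schreier.Basic.Sch ↥(twistedE6 F q))
    (h2 : Even (Nat.card K)) (e : K ≃* ↥(twistedE6 F q)) (α : MulAut K) (hα : (orderOf α).Coprime (Nat.card K)) :
    ∃ (E : Subfield F) (q₀ : ℕ), Nat.card F = Nat.card ↥E ^ orderOf α ∧ Nat.card ↥E = q₀ ^ 2 ∧ IsPrimePow q₀ ∧
      q = q₀ ^ orderOf α ∧ ∃ f : ↥(twistedE6 ↥E q₀) →* K, Function.Injective f ∧ ∀ x, α (f x) = f x := by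
  obtain ⟨E, hE, f, hf⟩ := Row.fix (row_2e6 hq hF hs) e α hα (fun E => twistedE6 ↥E q)
    fun E _ => words_e6 E.subtype _
  obtain ⟨p, a, hp, ha, rfl⟩ := (isPrimePow_nat_iff _).1 hq
  set n := orderOf α with hn
  have hno : Odd n := by
    rw [← Nat.not_even_iff_odd]
    intro h
    have h3 := Nat.dvd_gcd h.two_dvd h2.two_dvd
    rw [hα] at h3
    omega
  have hE' : p ^ (a * 2) = Nat.card ↥E ^ n := by rw [← hE, Nat.card_eq_fintype_card, hF, ← pow_mul]
  obtain ⟨k, hk, hkn⟩ := exists_log hp (by rintro h0; rw [h0] at hno; exact absurd hno (by decide)) hE'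
  have hke : Even k := by
    by_contra hko
    rw [Nat.not_even_iff_odd] at hko
    have := hko.mul hno
    rw [hkn] at this
    exact absurd this (by rw [Nat.not_odd_iff_even]; exact ⟨a, by ring⟩)
  obtain ⟨a₀, ha₀⟩ := hke
  obtain ⟨j, hj⟩ := hno
  have h1 : a = a₀ * n := by
    have : 2 * a = 2 * (a₀ * n) := by rw [mul_comm 2 a, ← hkn, ha₀]; ring
    omega
  have ha₀0 : a₀ ≠ 0 := by
    rintro rfl
    rw [zero_mul] at h1; omega
  have hc : Nat.card ↥E = (p ^ a₀) ^ 2 := by rw [hk, ha₀, ← pow_mul]; congr 1; ring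
  refine ⟨E, p ^ a₀, hE, hc, ?_, ?_, ?_⟩
  · exact hp.isPrimePow.pow ha₀0
  · rw [← pow_mul, ← h1]
  · have h3 : a = a₀ + j * k := by rw [h1, hj, ha₀]; ring
    rw [← twistedE6_congr (E := ↥E) (e := p ^ a) (pow_eq hk h3)]
    exact ⟨f, hf⟩

end E6

end Cfsg.Agent.H967.CopFix
end

-- part: H967/CopD4
section
set_option linter.all false
open scoped Cfsg.Agent.FastGrp

/-!
# The fixed points of coprime automorphisms of `³D₄(q)`

`symm` : the graph symmetry of `D₄` exchanging the last two nodes; it carries `³D₄` for the triality `t ↦ t ^ q` to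
`³D₄` for the inverse triality.
-/

set_option autoImplicit false

namespace Cfsg.Agent.H967.CopD4

open Cfsg.Lie Cfsg.Agent.H967.CopMat Cfsg.Agent.H967.CopRow Cfsg.Agent.H967.CopSec Cfsg.Agent.H967.CopChev
  Cfsg.Agent.H967.CopTw Cfsg.Agent.H967.CopFix Cfsg.Agent.ChevalleyStructure.SignedSymm

/-- Tables of the graph symmetry [0, 1, 3, 2] of D4. -/
def tab : Tables where
  rho := [0, 1, 3, 2, 4, 5, 6, 8, 7, 9, 11, 10, 13, 12, 14, 16, 15, 17, 18, 19, 21, 20, 22, 23]
  rhoInv := [0, 1, 3, 2, 4, 5, 6, 8, 7, 9, 11, 10, 13, 12, 14, 16, 15, 17, 18, 19, 21, 20, 22, 23]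
  eps := [1, 1, 1, 1, 1, 1, 1, 1, 1, 1, 1, 1, 1, 1, 1, 1, 1, 1, 1, 1, 1, 1, 1, 1]
  rho0 := [0, 1, 3, 2]
  rho0Inv := [0, 1, 3, 2]
  del := [1, 1, 1, 1]

set_option maxRecDepth 100000 in
theorem check_tab : tab.check chevD4 = true := by decide +kernel

/-- The graph symmetry [0, 1, 3, 2] of D4. -/
def symm : Symm chevD4 := Tables.toSymm check_tab

theorem eps_val : ∀ r : Fin chevD4.nroots, symm.ε r = 1 := by decide +kernel

theorem conj_x (E : Type*) [Field E] (r : ℕ) (hr : r < 24) (t : E) :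
    symm.mat E * chevD4.x E r t * symm.matInv E = chevD4.x E (tab.rho.getD r 0) t := by
  have h := symm.mat_conj_x E (⟨r, hr⟩ : Fin chevD4.nroots) t
  rw [eps_val, Int.cast_one, one_mul] at h
  exact h

theorem conj_mul (E : Type*) [Field E] (A B : Matrix chevD4.Idx chevD4.Idx E) :
    symm.mat E * (A * B) * symm.matInv E = (symm.mat E * A * symm.matInv E) * (symm.mat E * B * symm.matInv E) := by
  have h := symm.matInv_mul_mat E
  calc symm.mat E * (A * B) * symm.matInv E = symm.mat E * A * 1 * B * symm.matInv E := by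
        rw [mul_one]; simp only [mul_assoc]
    _ = symm.mat E * A * (symm.matInv E * symm.mat E) * B * symm.matInv E := by rw [h]
    _ = _ := by simp only [mul_assoc]

/-- The groups for the two trialities. -/
theorem le_comap {E : Type*} [Field E] {q q' : ℕ} (h1 : ∀ t : E, t ^ q = t ^ (q' ^ 2)) (h2 : ∀ t : E, t ^ (q ^ 2) = t ^ q')
    (h3 : ∀ t : E, t ^ q' = t → t ^ q = t) :
    (twistedD4 E q').map (MulAut.conj (symm.P E)).toMonoidHom ≤ twistedD4 E q := by
  rw [Subgroup.map_le_iff_le_comap]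
  unfold twistedD4 ChevalleyDatum.genSubgroup
  rw [Subgroup.closure_le]
  rintro g ⟨w, hw, hg⟩
  refine Subgroup.subset_closure ?_
  have hc : ((((MulAut.conj (symm.P E)).toMonoidHom g : GL chevD4.Idx E)) : Matrix chevD4.Idx chevD4.Idx E) =
      symm.mat E * (g : Matrix chevD4.Idx chevD4.Idx E) * symm.matInv E := rfl
  rcases hw with ⟨t, ht, r, hr, rfl⟩ | ⟨t, rs, hrs, rfl⟩
  · refine ⟨[(r, t)], Or.inl ⟨t, h3 t ht, r, hr, rfl⟩, ?_⟩
    rw [hc, hg]
    simp only [ChevalleyDatum.wordMat, List.map_cons, List.map_nil, List.prod_cons, List.prod_nil, mul_one]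
    simp only [List.mem_cons, List.not_mem_nil, or_false] at hr
    rcases hr with rfl | rfl
    · exact conj_x E _ (by decide) t
    · exact conj_x E _ (by decide) t
  · refine ⟨[(rs.1, t), (rs.2.1, t ^ q), (rs.2.2, t ^ (q ^ 2))], Or.inr ⟨t, rs, hrs, rfl⟩, ?_⟩
    rw [hc, hg]
    simp only [ChevalleyDatum.wordMat, List.map_cons, List.map_nil, List.prod_cons, List.prod_nil, mul_one]
    rw [conj_mul, conj_mul, h1, h2]
    simp only [List.mem_cons, List.not_mem_nil, or_false] at hrs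
    rcases hrs with rfl | rfl
    · show symm.mat E * chevD4.x E d4p1 t * symm.matInv E * (symm.mat E * chevD4.x E d4p3 (t ^ q') * symm.matInv E *
        (symm.mat E * chevD4.x E d4p4 (t ^ (q' ^ 2)) * symm.matInv E)) = chevD4.x E d4p1 t *
          (chevD4.x E d4p3 (t ^ (q' ^ 2)) * chevD4.x E d4p4 (t ^ q'))
      rw [conj_x E _ (by decide), conj_x E _ (by decide), conj_x E _ (by decide)]
      have := Cfsg.Agent.ChevalleyStructure.D4Cols.x_comm (F := E) (r := d4p3) (s := d4p4) (by decide) (t ^ (q' ^ 2))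
        (t ^ q')
      rw [this]
      rfl
    · show symm.mat E * chevD4.x E d4m1 t * symm.matInv E * (symm.mat E * chevD4.x E d4m3 (t ^ q') * symm.matInv E *
        (symm.mat E * chevD4.x E d4m4 (t ^ (q' ^ 2)) * symm.matInv E)) = chevD4.x E d4m1 t *
          (chevD4.x E d4m3 (t ^ (q' ^ 2)) * chevD4.x E d4m4 (t ^ q'))
      rw [conj_x E _ (by decide), conj_x E _ (by decide), conj_x E _ (by decide)]
      have := Cfsg.Agent.ChevalleyStructure.D4Cols.x_comm (F := E) (r := d4m3) (s := d4m4) (by decide) (t ^ (q' ^ 2))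
        (t ^ q')
      rw [this]
      rfl

theorem words_d4 {E : Type*} [Field E] {F : Type*} [Field F] (f : E →+* F) (q : ℕ) :
    (twistedD4 E q).map (Matrix.GeneralLinearGroup.map f) ≤ twistedD4 F q := by
  refine map_genSubgroup_le chevD4 f ?_
  rintro w (⟨t, ht, r, hr, rfl⟩ | ⟨t, rs, hrs, rfl⟩)
  · left
    exact ⟨f t, by rw [← map_pow, ht], r, hr, rfl⟩
  · right
    exact ⟨f t, rs, hrs, by simp⟩

theorem twistedD4_congr {E : Type*} [Field E] {e e₀ : ℕ} (h : ∀ x : E, x ^ e = x ^ e₀) :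
    twistedD4 E e = twistedD4 E e₀ := by
  have h2 : ∀ x : E, x ^ (e ^ 2) = x ^ (e₀ ^ 2) := fun x => by rw [pow_two, pow_mul, h, h, ← pow_mul, ← pow_two]
  unfold twistedD4 d4Words
  simp only [h, h2]

variable {F : Type*} [Field F] [Fintype F] {K : Type*} [Group K] {q : ℕ}

theorem fix_d4 (hq : IsPrimePow q) (hF : Fintype.card F = q ^ 3) (h6 : 3 ∣ Nat.card K)
    (e : K ≃* ↥(twistedD4 F q)) (α : MulAut K) (hα : (orderOf α).Coprime (Nat.card K)) :
    ∃ (E : Subfield F) (q₀ : ℕ), Nat.card F = Nat.card ↥E ^ orderOf α ∧ Nat.card ↥E = q₀ ^ 3 ∧ IsPrimePow q₀ ∧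
      q = q₀ ^ orderOf α ∧ ∃ f : ↥(twistedD4 ↥E q₀) →* K, Function.Injective f ∧ ∀ x, α (f x) = f x := by
  obtain ⟨E, hE, f, hf⟩ := Row.fix (row_d4 hq hF) e α hα (fun E => twistedD4 ↥E q)
    fun E _ => words_d4 E.subtype _
  obtain ⟨p, a, hp, ha, rfl⟩ := (isPrimePow_nat_iff _).1 hq
  set n := orderOf α with hn
  have hn3 : ¬ 3 ∣ n := by
    intro h
    have h3 := Nat.dvd_gcd h h6
    rw [hα] at h3
    omega
  have hn0 : n ≠ 0 := by rintro h0; rw [h0] at hn3; exact hn3 (dvd_zero 3)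
  have hE' : p ^ (a * 3) = Nat.card ↥E ^ n := by rw [← hE, Nat.card_eq_fintype_card, hF, ← pow_mul]
  obtain ⟨k, hk, hkn⟩ := exists_log hp hn0 hE'
  have hk3 : 3 ∣ k := by
    have h1 : 3 ∣ k * n := ⟨a, by rw [hkn]; ring⟩
    exact ((Nat.prime_three.dvd_mul).1 h1).resolve_right hn3
  obtain ⟨a₀, rfl⟩ := hk3
  have h1 : a = a₀ * n := by
    have : 3 * a = 3 * (a₀ * n) := by rw [mul_comm 3 a, ← hkn]; ring
    omega
  have ha₀0 : a₀ ≠ 0 := by
    rintro rfl
    rw [zero_mul] at h1; omega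
  have hc : Nat.card ↥E = (p ^ a₀) ^ 3 := by rw [hk, ← pow_mul]; congr 1; ring
  refine ⟨E, p ^ a₀, hE, hc, hp.isPrimePow.pow ha₀0, by rw [← pow_mul, ← h1], ?_⟩
  have hn3' : n % 3 = 1 ∨ n % 3 = 2 := by omega
  rcases hn3' with h3 | h3
  · have h4 : a = a₀ + (n / 3) * (3 * a₀) := by
      conv_lhs => rw [h1, ← Nat.div_add_mod n 3, h3]
      ring
    rw [← twistedD4_congr (E := ↥E) (e := p ^ a) (pow_eq hk h4)]
    exact ⟨f, hf⟩
  · have h4 : a = 2 * a₀ + (n / 3) * (3 * a₀) := by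
      conv_lhs => rw [h1, ← Nat.div_add_mod n 3, h3]
      ring
    have h5 : ∀ t : ↥E, t ^ p ^ a = t ^ ((p ^ a₀) ^ 2) := fun t => by
      rw [pow_eq hk h4 t, ← pow_mul, mul_comm a₀ 2]
    have h7 : ∀ t : ↥E, t ^ (p ^ a₀) ^ 4 = t ^ (p ^ a₀) := fun t => by
      rw [← pow_mul]
      exact pow_eq hk (by ring : a₀ * 4 = a₀ + 1 * (3 * a₀)) t
    have h8 : ∀ t : ↥E, t ^ ((p ^ a) ^ 2) = t ^ (p ^ a₀) := fun t => by
      rw [pow_two (p ^ a), pow_mul, h5, h5, ← pow_mul, ← pow_add]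
      exact h7 t
    have h9 : ∀ t : ↥E, t ^ (p ^ a₀) = t → t ^ (p ^ a) = t := fun t ht => by
      rw [h5, pow_two, pow_mul, ht, ht]
    have hle := le_comap h5 h8 h9
    let j : ↥(twistedD4 ↥E (p ^ a₀)) →* ↥(twistedD4 ↥E (p ^ a)) :=
      { toFun := fun g => ⟨(MulAut.conj (symm.P ↥E)).toMonoidHom g.1, hle ⟨g.1, g.2, rfl⟩⟩
        map_one' := Subtype.ext (map_one _)
        map_mul' := fun x y => Subtype.ext (map_mul _ _ _) }
    refine ⟨f.comp j, ?_, fun x => hf.2 (j x)⟩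
    refine hf.1.comp ?_
    intro x y hxy
    exact Subtype.ext ((MulAut.conj (symm.P ↥E)).injective (congrArg Subtype.val hxy))

end Cfsg.Agent.H967.CopD4
end

-- part: H415/CopSzRow
section
prune_inst 0x14200100030010000000000000000050000000000000040004410000080000400000000001000111500080800004002002100000000000000000000000000100000002008008a000020000000000000000000000000000000000000000000000000000000
set_option linter.all false
open scoped Cfsg.Agent.FastGrp

-- part: H415/CopSzGen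
section
/-!
# S1923: the Suzuki groups satisfy `CG` (helper415)
-/

set_option autoImplicit false

namespace Cfsg.Agent.H415.CopSzGen

open Subgroup Cfsg Cfsg.Agent.H15.CopGen

/-! ### Centre of the Sylow subgroup -/

section Rel

open Cfsg.Agent.ThreePrime.SzRel

variable {J : Type*} [Group J] {F : Type*} [Field F] (R : ThreePrime.SzRel.Rel J F)

/-- the centre of `T` -/
def Z : Subgroup J where
  carrier := {g | ∃ b : F, g = R.u 0 b}
  mul_mem' := by
    rintro _ _ ⟨a, rfl⟩ ⟨b, rfl⟩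
    exact ⟨a + b, by rw [R.u_mul]; congr 1 <;> ring⟩
  one_mem' := ⟨0, R.u_zero.symm⟩
  inv_mem' := by
    rintro _ ⟨a, rfl⟩
    exact ⟨a, by rw [R.u_inv]; congr 1; ring⟩

/-- elements commuting with `u 0 1` -/
theorem exists_u_of_comm {c : J} (h : c * R.u 0 1 = R.u 0 1 * c) : ∃ a b, c = R.u a b := by
  have h1 : c * R.u 0 1 * c⁻¹ = R.u 0 1 := by rw [h, mul_inv_cancel_right]
  obtain ⟨a, b, k, rfl⟩ := R.exists_ud (R.u_mem 0 1) (R.u_ne_one one_ne_zero) (by rw [h1]; exact R.u_mem 0 1)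
  refine ⟨a, b, ?_⟩
  have h2 : (R.u a b * R.d k) * R.u 0 1 * (R.u a b * R.d k)⁻¹ =
      R.u a b * (R.d k * R.u 0 1 * (R.d k)⁻¹) * (R.u a b)⁻¹ := by group
  rw [h2, R.conj_d, R.conj_u] at h1
  have h3 := (R.u_inj h1).2
  have h4 : R.θ k = 1 := by
    rw [zero_mul, zero_mul, map_zero, mul_zero, zero_mul, add_zero, add_zero, one_mul] at h3
    exact h3
  have h5 : k = 1 := Units.ext (R.θ.injective (by rw [h4, Units.val_one, map_one]))
  rw [h5, R.d_one, mul_one]

theorem Z_le_dc : Z R ≤ dc (R.u 0 1) := by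
  rintro _ ⟨b, rfl⟩
  rw [mem_dc]
  intro c hc
  obtain ⟨x, y, rfl⟩ := exists_u_of_comm R hc
  rw [R.comm_iff]
  simp

/-- the Borel subgroup normalises the centre -/
theorem conj_Z {a b : F} {k : Fˣ} {v : J} (hv : v ∈ Z R) : (R.u a b * R.d k) * v * (R.u a b * R.d k)⁻¹ ∈ Z R := by
  obtain ⟨y, rfl⟩ := hv
  have h2 : (R.u a b * R.d k) * R.u 0 y * (R.u a b * R.d k)⁻¹ =
      R.u a b * (R.d k * R.u 0 y * (R.d k)⁻¹) * (R.u a b)⁻¹ := by group
  rw [h2, R.conj_d, R.conj_u]
  refine ⟨y * R.θ k, ?_⟩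
  congr 1
  · ring
  · rw [zero_mul, zero_mul, map_zero]; ring

/-- **Generation.** A subgroup containing `Z` and transitive on the conjugates of `T` is everything. -/
theorem eq_top_of_trans [IsSimpleGroup J] {H : Subgroup J} (hZ : Z R ≤ H)
    (ht : ∀ g : J, ∃ h ∈ H, ∃ a b k, h⁻¹ * g = R.u a b * R.d k) : H = ⊤ := by
  have h1 : Subgroup.normalClosure (Z R : Set J) ≤ H := by
    unfold Subgroup.normalClosure
    rw [closure_le]
    intro x hx
    obtain ⟨v, hv, hvx⟩ := Group.mem_conjugatesOfSet_iff.1 hx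
    obtain ⟨g, rfl⟩ := isConj_iff.1 hvx
    obtain ⟨h, hh, a, b, k, e⟩ := ht g
    have e1 : g = h * (R.u a b * R.d k) := by rw [← e]; group
    have e2 : g * v * g⁻¹ = h * ((R.u a b * R.d k) * v * (R.u a b * R.d k)⁻¹) * h⁻¹ := by rw [e1]; group
    rw [e2]
    exact mul_mem (mul_mem hh (hZ (conj_Z R hv))) (inv_mem hh)
  rcases (Subgroup.normalClosure_normal (s := (Z R : Set J))).eq_bot_or_eq_top with h2 | h2
  · exfalso
    have h3 : R.u 0 1 ∈ Subgroup.normalClosure (Z R : Set J) := subset_normalClosure ⟨1, rfl⟩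
    rw [h2, mem_bot] at h3
    exact R.u_ne_one one_ne_zero h3
  · rw [h2] at h1
    exact top_le_iff.1 h1

end Rel

/-! ### The matrix group -/

section Mat

open Cfsg.Agent.ThreePrime.SzRel Cfsg.Agent.LieRecognition.SzMatrix

variable {F : Type*} [Field F] {θ : F →+* F} {e : ℕ}

/-- the first coordinate of the point of `u x y w n` -/
theorem entry_eq (H : Good F θ e) (x y c f : F) (k : Fˣ) :
    (H.u x y * H.w * (H.u c f * H.d k)).1.1 2 0 = x * (H.u x y * H.w * (H.u c f * H.d k)).1.1 3 0 := by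
  show (H.U x y * W F * (H.U c f * H.D k)).1 2 0 = x * (H.U x y * W F * (H.U c f * H.D k)).1 3 0
  obtain ⟨h0, h1, h2, h3⟩ := H.U_mul_D_apply c f k
  rw [mul_col_zero _ _ h1 h2 h3, mul_col_zero _ _ h1 h2 h3, h0, Units.val_mul, W_val, H.U_val, Umat_def]
  simp only [J, Matrix.mul_apply, Fin.sum_univ_four, _root_.Fin.isValue, _root_.Matrix.of_apply, _root_.Matrix.cons_val', _root_.Matrix.cons_val_fin_one, _root_.Matrix.cons_val, _root_.Matrix.cons_val_one, _root_.Matrix.cons_val_zero, _root_.MulZeroClass.mul_zero, _root_.add_zero, _root_.mul_one, _root_.zero_add, _root_.one_mul]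

/-- the first coordinate of the point of `w u(0, b) w` -/
theorem entry_wuw (H : Good F θ e) (b : F) :
    (H.w * H.u 0 b * H.w).1.1 2 0 = b ∧ (H.w * H.u 0 b * H.w).1.1 3 0 = θ b := by
  constructor
  · show (W F * H.U 0 b * W F).1 2 0 = b
    rw [Units.val_mul, Units.val_mul, W_val, H.U_val, Umat_def]
    simp [J, Matrix.mul_apply, Fin.sum_univ_four]
  · show (W F * H.U 0 b * W F).1 3 0 = θ b
    rw [Units.val_mul, Units.val_mul, W_val, H.U_val, Umat_def]
    simp [J, Matrix.mul_apply, Fin.sum_univ_four]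

/-- `w u(0, b) w` for suitable `b` has a given first coordinate -/
theorem exists_b (H : Good F θ e) {x : F} (hx : x ≠ 0) :
    ∃ (b y c f : F) (k : Fˣ), H.w * H.u 0 b * H.w = H.u x y * H.w * (H.u c f * H.d k) := by
  have hθ : θ x ≠ 0 := fun h => hx ((map_eq_zero θ).mp h)
  obtain ⟨b, hb⟩ : ∃ b : F, b = (x * θ x)⁻¹ := ⟨_, rfl⟩
  have hb0 : b ≠ 0 := by rw [hb]; exact inv_ne_zero (mul_ne_zero hx hθ)
  have hθb : θ b ≠ 0 := fun h => hb0 ((map_eq_zero θ).mp h)
  have hbx : b = x * θ b := by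
    rw [hb, map_inv₀, map_mul, H.sq]
    field_simp
  obtain ⟨h2, h3⟩ := entry_wuw H b
  rcases (ofGood H).bruhat (H.w * H.u 0 b * H.w) with ⟨p, q, k, h⟩ | ⟨p, q, c, f, k, h⟩
  · exfalso
    have h4 : (H.w * H.u 0 b * H.w).1.1 3 0 = 0 := by
      have h5 : H.w * H.u 0 b * H.w ∈ H.borel := (H.mem_borel_iff' _).2 ⟨p, q, k, h⟩
      exact h5
    rw [h3] at h4
    exact hθb h4
  · have h4 : H.w * H.u 0 b * H.w = H.u p q * H.w * (H.u c f * H.d k) := h
    have h5 := entry_eq H p q c f k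
    rw [← h4, h2, h3] at h5
    have h6 : p = x := by
      have h7 : x * θ b = p * θ b := by rw [← hbx]; exact h5
      exact (mul_right_cancel₀ hθb h7).symm
    subst h6
    exact ⟨b, q, c, f, k, h4⟩

/-- **Generation by `Z` and `w`.** -/
theorem eq_top (H : Good F θ e) [IsSimpleGroup ↥(Cfsg.Lie.Sz F e)] {L : Subgroup ↥(Cfsg.Lie.Sz F e)}
    (hZ : Z (ofGood H) ≤ L) (hw : H.w ∈ L) : L = ⊤ := by
  refine eq_top_of_trans (ofGood H) hZ fun g => ?_
  rcases (ofGood H).bruhat g with ⟨a, b, k, h⟩ | ⟨x, y, c, f, k, h⟩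
  · exact ⟨1, one_mem _, a, b, k, by rw [inv_one, one_mul]; exact h⟩
  · by_cases hx : x = 0
    · subst hx
      refine ⟨(ofGood H).u 0 y * H.w, mul_mem (hZ ⟨y, rfl⟩) hw, c, f, k, ?_⟩
      rw [h]
      exact inv_mul_cancel_left _ _
    · obtain ⟨b, y', c', f', k', h'⟩ := exists_b H hx
      have h1 : H.w * H.u 0 b * H.w ∈ L := mul_mem (mul_mem hw (hZ ⟨b, rfl⟩)) hw
      have h0 : H.u 0 (y + y') * H.u x y' = H.u x y := by
        rw [H.u_mul]
        congr 1
        · ring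
        · linear_combination y' * H.two
      have h2 : H.u 0 (y + y') * (H.w * H.u 0 b * H.w) = H.u x y * H.w * (H.u c' f' * H.d k') := by
        rw [h', ← h0]
        group
      refine ⟨H.u 0 (y + y') * (H.w * H.u 0 b * H.w), mul_mem (hZ ⟨_, rfl⟩) h1, ?_⟩
      have h3 : (H.u 0 (y + y') * (H.w * H.u 0 b * H.w))⁻¹ * g = (H.u c' f' * H.d k')⁻¹ * (H.u c f * H.d k) := by
        rw [h2]
        have h4 : g = H.u x y * H.w * (H.u c f * H.d k) := h
        rw [h4]
        group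
      rw [h3]
      have h5 : (H.u c' f' * H.d k')⁻¹ * (H.u c f * H.d k) ∈ H.borel :=
        mul_mem (inv_mem ((H.mem_borel_iff' _).2 ⟨_, _, _, rfl⟩)) ((H.mem_borel_iff' _).2 ⟨_, _, _, rfl⟩)
      exact (H.mem_borel_iff' _).1 h5

end Mat

/-! ### Fixed points -/

section Fix

open Cfsg.Agent.ThreePrime.SzRel Cfsg.Agent.LieRecognition.SzMatrix Cfsg.Agent.H967.CopMat Cfsg.Agent.H967.CopSz
open scoped Matrix

/-- the embedding of the group over a subfield -/
def emb {E F : Type*} [Field E] [Field F] (f : E →+* F) (e : ℕ) : ↥(Cfsg.Lie.Sz E e) →* ↥(Cfsg.Lie.Sz F e) where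
  toFun g := ⟨Matrix.GeneralLinearGroup.map f g.1, H967.CopFix.map_sz f e ⟨g.1, g.2, rfl⟩⟩
  map_one' := Subtype.ext (map_one _)
  map_mul' a b := Subtype.ext (map_mul _ _ _)

theorem emb_injective {E F : Type*} [Field E] [Field F] (f : E →+* F) (e : ℕ) : Function.Injective (emb f e) := by
  intro a b hab
  exact Subtype.ext (_root_.Cfsg.Agent.H967.CopMat.map_injective f (congrArg Subtype.val hab))

variable {F : Type*} [Field F] [Fintype F] {m : ℕ}

theorem fx_eq (hF : Fintype.card F = 2 ^ (2 * m + 1)) (σ : F ≃+* F) :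
    fx (fieldAut (stab_sz hF) σ) = (emb (Fx σ).subtype (2 ^ (m + 1))).range := by
  apply le_antisymm
  · intro g hg
    have h1 : ∀ i j, ((g : GL (Fin 4) F) : Matrix (Fin 4) (Fin 4) F) i j ∈ Fx σ := (fixed_iff (stab_sz hF) σ g).1 hg
    obtain ⟨g₀, hg₀⟩ := exists_map σ g.1 h1
    have h2 : g.1 ∈ SzSet F (2 ^ (m + 1)) := by
      rw [← (good hF).closure_eq]
      exact g.2
    have hinj : Function.Injective (fun M : Matrix (Fin 4) (Fin 4) ↥(Fx σ) => M.map (Fx σ).subtype) :=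
      Matrix.map_injective (Fx σ).subtype.injective
    have hg₀' : ((g₀ : GL (Fin 4) ↥(Fx σ)) : Matrix (Fin 4) (Fin 4) ↥(Fx σ)).map (Fx σ).subtype =
        (g.1 : Matrix (Fin 4) (Fin 4) F) := congrArg Units.val hg₀
    have hJ : (J ↥(Fx σ)).map (Fx σ).subtype = J F := by
      ext i j
      (revert i j; simp only [J, _root_.Fin.forall_fin_succ, _root_.Subfield.coe_subtype, _root_.Matrix.map_apply, _root_.Matrix.of_apply, _root_.Matrix.cons_val', _root_.Matrix.cons_val_fin_one, Fin.isValue, _root_.Matrix.cons_val_zero, _root_.Matrix.cons_val_succ, _root_.forall_const, _root_.ZeroMemClass.coe_zero, _root_.OneMemClass.coe_one, _root_.and_self, _root_.implies_true])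
    have h3 : g₀ ∈ Cfsg.Lie.Sz ↥(Fx σ) (2 ^ (m + 1)) := by
      apply Subgroup.subset_closure
      refine ⟨?_, ?_⟩
      · rw [mem_Sp4_iff]
        apply hinj
        have h4 := (mem_Sp4_iff _).1 h2.1
        show ((g₀ : Matrix (Fin 4) (Fin 4) ↥(Fx σ))ᵀ * J ↥(Fx σ) * (g₀ : Matrix (Fin 4) (Fin 4) ↥(Fx σ))).map
          (Fx σ).subtype = (J ↥(Fx σ)).map (Fx σ).subtype
        rw [Matrix.map_mul, Matrix.map_mul, Matrix.transpose_map, hg₀', hJ, h4]
      · apply hinj
        ext p r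
        have h4 := congrFun (congrFun h2.2 p) r
        rw [star4_apply, Matrix.map_apply, ← hg₀'] at h4
        show (Fx σ).subtype _ = (Fx σ).subtype _
        rw [star4_apply, Matrix.map_apply, map_sub, map_mul, map_mul, map_pow]
        exact h4
    exact ⟨⟨g₀, h3⟩, Subtype.ext hg₀⟩
  · rintro _ ⟨g, rfl⟩
    exact Subtype.ext (map_fixed σ g.1)

/-- the group over the fixed field -/
noncomputable def fxEquiv (hF : Fintype.card F = 2 ^ (2 * m + 1)) (σ : F ≃+* F) :
    ↥(Cfsg.Lie.Sz ↥(Fx σ) (2 ^ (m + 1))) ≃* ↥(fx (fieldAut (stab_sz hF) σ)) :=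
  (MonoidHom.ofInjective (emb_injective (Fx σ).subtype (2 ^ (m + 1)))).trans (MulEquiv.subgroupCongr (fx_eq hF σ).symm)

theorem u_mem_fx (hF : Fintype.card F = 2 ^ (2 * m + 1)) (σ : F ≃+* F) :
    (good hF).u 0 1 ∈ fx (fieldAut (stab_sz hF) σ) := by
  show fieldAut (stab_sz hF) σ ((good hF).u 0 1) = (good hF).u 0 1
  have h1 := H70.SzOut.fieldAut_u (good hF) σ 0 1
  rw [map_zero, map_one] at h1
  exact h1

theorem w_mem_fx (hF : Fintype.card F = 2 ^ (2 * m + 1)) (σ : F ≃+* F) :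
    (good hF).w ∈ fx (fieldAut (stab_sz hF) σ) :=
  H70.SzOut.fieldAut_w (good hF) σ

theorem Z_inv (hF : Fintype.card F = 2 ^ (2 * m + 1)) (σ : F ≃+* F) :
    ∀ x ∈ Z (ofGood (good hF)), fieldAut (stab_sz hF) σ x ∈ Z (ofGood (good hF)) := by
  rintro _ ⟨b, rfl⟩
  refine ⟨σ b, ?_⟩
  have h1 := H70.SzOut.fieldAut_u (good hF) σ 0 b
  rw [map_zero] at h1
  exact h1

/-- generation of the whole group -/
theorem gen (hm : 1 ≤ m) (hF : Fintype.card F = 2 ^ (2 * m + 1)) (σ : F ≃+* F) :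
    fx (fieldAut (stab_sz hF) σ) ⊔ Z (ofGood (good hF)) = ⊤ := by
  have := Cfsg.Agent.S1162.result hm hF
  exact eq_top (good hF) le_sup_right (mem_sup_left (w_mem_fx hF σ))

end Fix

end Cfsg.Agent.H415.CopSzGen
end

-- part: H415/CopSzRow
section
/-!
# S1923: the Suzuki groups satisfy `CG` (helper415), part 2
-/

set_option autoImplicit false

namespace Cfsg.Agent.H415.CopSzRow

open Subgroup Cfsg Cfsg.Agent.H15.CopGen Cfsg.Agent.H415.CopSzGen

/-! ### Centralizers of 2-elements -/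

section Rel

variable {J : Type*} [Group J] {F : Type*} [Field F] (R : ThreePrime.SzRel.Rel J F)

/-- elements commuting with a nontrivial element of `T` are in `T` -/
theorem mem_T_of_comm {c t : J} (ht : t ∈ R.T) (ht1 : t ≠ 1) (h : c * t = t * c) : c ∈ R.T := by
  have h1 : c * t * c⁻¹ = t := by rw [h, mul_inv_cancel_right]
  obtain ⟨a, b, k, rfl⟩ := R.exists_ud ht ht1 (by rw [h1]; exact ht)
  obtain ⟨x, y, rfl⟩ := ht
  have h2 : (R.u a b * R.d k) * R.u x y * (R.u a b * R.d k)⁻¹ =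
      R.u a b * (R.d k * R.u x y * (R.d k)⁻¹) * (R.u a b)⁻¹ := by group
  rw [h2, R.conj_d, R.conj_u] at h1
  obtain ⟨h3, h4⟩ := R.u_inj h1
  have hk : k = 1 := by
    by_cases hx : x = 0
    · subst hx
      have hy : y ≠ 0 := by
        rintro rfl
        exact ht1 R.u_zero
      have h5 : R.d k * R.u 0 y * (R.d k)⁻¹ = R.u 0 y := by
        rw [R.conj_d, zero_mul, zero_mul]
        rw [zero_mul, zero_mul, map_zero] at h4
        congr 1
        linear_combination h4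
      rcases R.fpf h5 with h6 | h6
      · exact h6
      · exact absurd h6.2 hy
    · have h5 : R.d k * R.u x 0 * (R.d k)⁻¹ = R.u x 0 := by
        rw [R.conj_d, h3, zero_mul]
      rcases R.fpf h5 with h6 | h6
      · exact h6
      · exact absurd h6.1 hx
  rw [hk, R.d_one, mul_one]
  exact R.u_mem a b

end Rel

/-! ### A group of order 20 -/

section Twenty

variable {K : Type*} [Group K] [Finite K]

/-- A subgroup of order 20 in which the elements commuting with nontrivial 2-elements are 2-elements. -/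
theorem twenty {X : Subgroup K} (hX : Nat.card X = 20)
    (h2 : ∀ t ∈ X, t ^ 4 = 1 → t ≠ 1 → ∀ c ∈ X, c * t = t * c → c ^ 5 = 1 → c = 1) :
    ∃ N : Subgroup K, N ≤ X ∧ N ≠ ⊥ ∧ X ≤ normalizer (N : Set K) ∧
      (∀ M : Subgroup K, M ≤ X → M ≠ ⊥ → X ≤ normalizer (M : Set K) → N ≤ M) ∧
      X ⊓ centralizer (N : Set K) ≤ N ∧ Nat.card N = 5 := by
  have h5 : Fact (Nat.Prime 5) := ⟨by norm_num⟩
  obtain ⟨P⟩ : Nonempty (Sylow 5 X) := inferInstance
  -- the Sylow subgroup has order 5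
  have hPc : Nat.card (P : Subgroup X) = 5 := by
    have e1 := P.card_eq_multiplicity
    rw [hX] at e1
    rw [e1, show (20 : ℕ) = 5 * 4 by norm_num, Nat.factorization_mul (by norm_num) (by norm_num), Finsupp.add_apply,
      Nat.Prime.factorization_self (by norm_num), Nat.factorization_eq_zero_of_not_dvd (by norm_num)]
    norm_num
  -- it is normal
  have hPn : (P : Subgroup X).Normal := by
    have e1 : Nat.card (Sylow 5 X) ∣ 4 := by
      have e2 := P.card_dvd_index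
      have e3 := (P : Subgroup X).card_mul_index
      rw [hPc, hX] at e3
      have e4 : (P : Subgroup X).index = 4 := by omega
      rwa [e4] at e2
    have e2 : Nat.card (Sylow 5 X) ≡ 1 [MOD 5] := card_sylow_modEq_one 5 X
    have e3 : Nat.card (Sylow 5 X) ≤ 4 := Nat.le_of_dvd (by norm_num) e1
    have e4 : Nat.card (Sylow 5 X) = 1 := by
      unfold Nat.ModEq at e2
      interval_cases (Nat.card (Sylow 5 X)) <;> omega
    have : Subsingleton (Sylow 5 X) := (Nat.card_eq_one_iff_unique.1 e4).1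
    exact Sylow.normal_of_subsingleton P
  let N : Subgroup K := (P : Subgroup X).map X.subtype
  have hNX : N ≤ X := by
    rintro _ ⟨x, -, rfl⟩
    exact x.2
  have hNc : Nat.card N = 5 := by
    rw [← hPc]
    exact (Nat.card_congr ((P : Subgroup X).equivMapOfInjective X.subtype X.subtype_injective).toEquiv).symm
  have hN1 : N ≠ ⊥ := by
    intro h
    rw [h, Subgroup.card_bot] at hNc
    omega
  have hNn : X ≤ normalizer (N : Set K) := by
    intro x hx
    refine Transfer.FusionBasic.mem_normalizer_of_conj_mem ?_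
    rintro _ ⟨y, hy, rfl⟩
    exact ⟨⟨x, hx⟩ * y * ⟨x, hx⟩⁻¹, hPn.conj_mem y hy _, rfl⟩
  -- elements of order 5
  have h5N : ∀ c ∈ X, c ^ 5 = 1 → c ∈ N := by
    intro c hc hc5
    have e1 : IsPGroup 5 (zpowers (⟨c, hc⟩ : X)) := by
      rw [IsPGroup.iff_card]
      have e2 : orderOf (⟨c, hc⟩ : X) ∣ 5 := orderOf_dvd_of_pow_eq_one (Subtype.ext hc5)
      rw [Nat.card_zpowers]
      rcases (Nat.dvd_prime (by norm_num)).1 e2 with e3 | e3
      · exact ⟨0, by rw [e3]; rfl⟩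
      · exact ⟨1, by rw [e3]; rfl⟩
    obtain ⟨Q, hQ⟩ := e1.exists_le_sylow
    have e3 : Q = P := by
      have e5 : Unique (Sylow 5 X) := Sylow.unique_of_normal P hPn
      exact Subsingleton.elim _ _
    rw [e3] at hQ
    exact ⟨⟨c, hc⟩, hQ (mem_zpowers _), rfl⟩
  have hN5 : ∀ x ∈ N, x ^ 5 = 1 := by
    intro x hx
    have e1 := pow_card_eq_one' (x := (⟨x, hx⟩ : N))
    rw [hNc] at e1
    exact congrArg Subtype.val e1
  have hcent : X ⊓ centralizer (N : Set K) ≤ N := by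
    intro c hc
    obtain ⟨hcX, hcC⟩ := mem_inf.1 hc
    have e20 : c ^ 20 = 1 := by
      have e1 := pow_card_eq_one' (x := (⟨c, hcX⟩ : X))
      rw [hX] at e1
      exact congrArg Subtype.val e1
    by_cases ht : c ^ 5 = 1
    · exact h5N c hcX ht
    · exfalso
      obtain ⟨⟨x, hx⟩, hx1⟩ := Subgroup.ne_bot_iff_exists_ne_one.1 hN1
      apply hx1
      apply Subtype.ext
      refine h2 (c ^ 5) (pow_mem hcX 5) (by rw [← pow_mul]; exact e20) ht x (hNX hx) ?_ (hN5 x hx)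
      have e1 : Commute x c := (mem_centralizer_iff.1 hcC) x hx
      exact (e1.pow_right 5).eq
  refine ⟨N, hNX, hN1, hNn, ?_, hcent, hNc⟩
  intro M hM hM1 hMn
  by_cases hd : 5 ∣ Nat.card M
  · obtain ⟨x, hx⟩ := exists_prime_orderOf_dvd_card' 5 hd
    have e1 : (x : K) ^ 5 = 1 := by
      have := pow_orderOf_eq_one x
      rw [hx] at this
      exact congrArg Subtype.val this
    have e2 : (x : K) ∈ N := h5N _ (hM x.2) e1
    have e3 : zpowers (x : K) = N := by
      refine Subgroup.eq_of_le_of_card_ge (zpowers_le.2 e2) ?_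
      rw [hNc, Nat.card_zpowers, Subgroup.orderOf_coe, hx]
    rw [← e3, zpowers_le]
    exact x.2
  · exfalso
    -- `[M, N] = 1`
    have hMc : Nat.card M ∣ 4 := by
      have e1 : Nat.card M ∣ 5 * 4 := by
        have := Subgroup.card_dvd_of_le hM
        rwa [hX] at this
      exact (Nat.Coprime.dvd_of_dvd_mul_left ((Nat.Prime.coprime_iff_not_dvd (by norm_num)).2 hd).symm e1)
    have hMN : M ⊓ N = ⊥ := by
      rw [eq_bot_iff]
      intro x hx
      obtain ⟨hxM, hxN⟩ := mem_inf.1 hx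
      have e1 : x ^ 4 = 1 := by
        have e2 := pow_card_eq_one' (x := (⟨x, hxM⟩ : M))
        have e3 : x ^ Nat.card M = 1 := congrArg Subtype.val e2
        obtain ⟨k, hk⟩ := hMc
        rw [hk, pow_mul, e3, one_pow]
      have e2 := hN5 x hxN
      rw [mem_bot]
      calc x = x ^ 5 * (x ^ 4)⁻¹ := by group
        _ = 1 := by rw [e1, e2, inv_one, one_mul]
    have hMC : M ≤ X ⊓ centralizer (N : Set K) := by
      intro a ha
      refine mem_inf.2 ⟨hM ha, mem_centralizer_iff.2 fun b hb => ?_⟩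
      have e1 : a * b * a⁻¹ * b⁻¹ ∈ M ⊓ N := by
        refine mem_inf.2 ⟨?_, mul_mem ((mem_normalizer_iff.1 (hNn (hM ha)) b).1 hb) (inv_mem hb)⟩
        have e2 := (mem_normalizer_iff.1 (hMn (hNX hb)) a⁻¹).1 (inv_mem ha)
        have e3 := mul_mem ha e2
        rwa [show a * (b * a⁻¹ * b⁻¹) = a * b * a⁻¹ * b⁻¹ by group] at e3
      rw [hMN, mem_bot] at e1
      exact (mul_inv_eq_iff_eq_mul.1 (mul_inv_eq_one.1 e1)).symm
    have hle : M ≤ M ⊓ N := le_inf le_rfl (hMC.trans hcent)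
    rw [hMN] at hle
    exact hM1 (le_bot_iff.1 hle)

end Twenty

/-! ### The Suzuki groups -/

section Sz

open Cfsg.Agent.ThreePrime.SzRel Cfsg.Agent.LieRecognition.SzMatrix Cfsg.Agent.H967.CopMat Cfsg.Agent.H967.CopSz

variable {F : Type*} [Field F] [Fintype F] {m : ℕ}

/-- the order of `Sz(2)` -/
theorem card_two {E : Type*} [Field E] [Fintype E] (hE : Fintype.card E = 2 ^ (2 * 0 + 1)) :
    Nat.card ↥(Cfsg.Lie.Sz E (2 ^ (0 + 1))) = 20 := by
  have H := good hE
  have D := S1163.data_sz H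
  have hcF : Nat.card E = 2 := by rw [Nat.card_eq_fintype_card, hE]; norm_num
  have h1 := D.index
  rw [H.card_unip, hcF] at h1
  rw [← Subgroup.card_mul_index H.borel, h1, H.card_borel, hcF]
  norm_num

/-- a 2-element of `Sz(q)` commutes with no element of order 5 -/
theorem no_five (hm : 1 ≤ m) (hF : Fintype.card F = 2 ^ (2 * m + 1)) {t c : ↥(Cfsg.Lie.Sz F (2 ^ (m + 1)))}
    (ht : t ^ 4 = 1) (ht1 : t ≠ 1) (h : c * t = t * c) (hc : c ^ 5 = 1) : c = 1 := by
  have h2 : Fact (Nat.Prime 2) := ⟨Nat.prime_two⟩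
  obtain ⟨S, hS⟩ := H70.SzOut.exists_sylow hm hF
  have hp : IsPGroup 2 (zpowers t) := by
    rw [IsPGroup.iff_card]
    have e1 : orderOf t ∣ 2 ^ 2 := orderOf_dvd_of_pow_eq_one ht
    rw [Nat.card_zpowers]
    obtain ⟨k, -, hk⟩ := (Nat.dvd_prime_pow Nat.prime_two).1 e1
    exact ⟨k, hk⟩
  obtain ⟨g, hg⟩ := ClosedTwo.Elem.exists_conj_le S hp
  have e1 := hg t (mem_zpowers t)
  rw [hS] at e1
  have e2 : g * t * g⁻¹ ≠ 1 := fun h => ht1 (conj_eq_one_iff.1 h)
  have e3 : (g * c * g⁻¹) * (g * t * g⁻¹) = (g * t * g⁻¹) * (g * c * g⁻¹) := by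
    calc (g * c * g⁻¹) * (g * t * g⁻¹) = g * (c * t) * g⁻¹ := by group
      _ = g * (t * c) * g⁻¹ := by rw [h]
      _ = _ := by group
  have e4 := mem_T_of_comm (ofGood (good hF)) e1 e2 e3
  have e5 := (ofGood (good hF)).pow_four e4
  have e6 : c ^ 4 = 1 := by
    rw [conj_pow] at e5
    exact conj_eq_one_iff.1 e5
  calc c = c ^ 5 * (c ^ 4)⁻¹ := by group
    _ = 1 := by rw [e6, hc, inv_one, one_mul]

/-- **An automorphism fixing `u(0, 1)` and `w`** is a field automorphism. -/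
theorem field_of_fix (hm : 1 ≤ m) (hF : Fintype.card F = 2 ^ (2 * m + 1)) {β : MulAut ↥(Cfsg.Lie.Sz F (2 ^ (m + 1)))}
    (h1 : β ((good hF).u 0 1) = (good hF).u 0 1) (h2 : β (good hF).w = (good hF).w) :
    ∃ σ : F ≃+* F, β = fieldAut (stab_sz hF) σ := by
  have h8 : 8 ≤ Nat.card F := by
    rw [Nat.card_eq_fintype_card, hF]
    exact ThreePrime.SzRel.Rel.eight_le hm
  have hfix : H70.SzOut.Fix (ofGood (good hF)) β := by
    refine ⟨?_, ?_⟩
    · rintro x ⟨a, b, rfl⟩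
      refine mem_T_of_comm (ofGood (good hF)) ((ofGood (good hF)).u_mem 0 1) ((ofGood (good hF)).u_ne_one one_ne_zero) ?_
      have e1 : (ofGood (good hF)).u 0 1 = β ((ofGood (good hF)).u 0 1) := h1.symm
      rw [e1, ← map_mul, ← map_mul]
      congr 1
      rw [(ofGood (good hF)).comm_iff]
      simp
    · have e1 : β (ofGood (good hF)).w = (ofGood (good hF)).w := h2
      rw [e1, (ofGood (good hF)).w_mul_w]
      exact one_mem _
  obtain ⟨σ, k, hσ⟩ := H70.SzOut.eq_of_fix h8 (good hF) hfix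
  refine ⟨σ, ?_⟩
  have e1 : H70.SzOut.fieldAut (good hF) σ (good hF).w = (good hF).w := H70.SzOut.fieldAut_w (good hF) σ
  have e2 : (good hF).d k * (good hF).w * ((good hF).d k)⁻¹ = (good hF).w := by
    have e3 := h2
    rw [hσ, MulAut.mul_apply, e1, MulAut.conj_apply] at e3
    exact e3
  have e3 : (good hF).d k = (good hF).d k⁻¹ := by
    have e4 : (good hF).d k * (good hF).w = (good hF).w * (good hF).d k := mul_inv_eq_iff_eq_mul.1 e2
    rw [(good hF).w_mul_d] at e4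
    exact mul_right_cancel e4
  have e4 : k = k⁻¹ := (good hF).d_inj e3
  have e5 : (k : F) = 1 := by
    have e6 : (k : F) * k = 1 := by
      have := mul_inv_cancel k
      rw [← e4] at this
      exact congrArg Units.val this
    have e7 : ((k : F) - 1) ^ 2 = 0 := by linear_combination e6 + (1 - (k : F)) * (good hF).two
    exact sub_eq_zero.1 (pow_eq_zero_iff (by norm_num) |>.1 e7)
  have e6 : k = 1 := Units.ext e5
  rw [hσ, e6, (good hF).d_one, map_one, one_mul]
  rfl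

/-- **The Suzuki groups.** -/
theorem cg_field (hm : 1 ≤ m) (hF : Fintype.card F = 2 ^ (2 * m + 1)) (σ : F ≃+* F) (hr : (orderOf σ).Prime)
    (hc : (orderOf σ).Coprime (Nat.card ↥(Cfsg.Lie.Sz F (2 ^ (m + 1))))) :
    KA (fieldAut (stab_sz hF) σ) ∨ KB (fieldAut (stab_sz hF) σ) := by
  have hsimp := Cfsg.Agent.S1162.result hm hF
  have hord : orderOf (fieldAut (stab_sz hF) σ) = orderOf σ := orderOf_injective _ (row_sz hm hF).inj σ
  have hcard := card_Fx σ
  rw [Nat.card_eq_fintype_card, hF] at hcard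
  obtain ⟨m₀, j, h1, h2⟩ := H967.CopFix.exists_odd_exp Nat.prime_two hcard
  have : Fintype ↥(Fx σ) := Fintype.ofFinite _
  have hE : Fintype.card ↥(Fx σ) = 2 ^ (2 * m₀ + 1) := by rw [← Nat.card_eq_fintype_card, h1]
  have hsz : Cfsg.Lie.Sz ↥(Fx σ) (2 ^ (m + 1)) = Cfsg.Lie.Sz ↥(Fx σ) (2 ^ (m₀ + 1)) :=
    H967.CopFix.sz_congr (H967.CopFix.pow_eq h1 (by rw [h2]; ring : m + 1 = m₀ + 1 + j * (2 * m₀ + 1)))
  have eX := fxEquiv hF σ
  have hα : (orderOf (fieldAut (stab_sz hF) σ)).Coprime (Nat.card ↥(Cfsg.Lie.Sz F (2 ^ (m + 1)))) := by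
    rw [hord]; exact hc
  rcases Nat.eq_zero_or_pos m₀ with h0 | h0
  · right
    subst h0
    have hX : Nat.card ↥(fx (fieldAut (stab_sz hF) σ)) = 20 := by
      rw [← Nat.card_congr eX.toEquiv, hsz, card_two hE]
    obtain ⟨N, hN1, hN2, hN3, hN4, hN5, hN6⟩ := twenty hX fun t _ ht ht1 c _ h hc5 => no_five hm hF ht ht1 h hc5
    refine ⟨?_, ⟨N, hN1, hN2, hN3, hN4, hN5⟩, ?_, ?_⟩
    · intro hcomm
      have e1 : fx (fieldAut (stab_sz hF) σ) ≤ N := by
        refine (le_inf le_rfl fun x hx => mem_centralizer_iff.2 fun y hy => ?_).trans hN5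
        exact congrArg Subtype.val (hcomm.is_comm.comm (⟨y, hN1 hy⟩ : ↥(fx (fieldAut (stab_sz hF) σ))) ⟨x, hx⟩)
      have e2 := Nat.le_of_dvd Nat.card_pos (Subgroup.card_dvd_of_le e1)
      omega
    · intro τ hτ1 hτ2 y
      obtain ⟨ρ, hρ⟩ := field_of_fix hm hF (hτ2 y _ (u_mem_fx hF σ)) (hτ2 y _ (w_mem_fx hF σ))
      have e1 : ρ ^ 20 = 1 := by
        apply (row_sz hm hF).inj
        rw [map_pow, map_one, ← hρ, ← map_pow]
        have e2 := pow_card_eq_one' (x := y)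
        rw [hX] at e2
        rw [e2, map_one]
      have hfin : Finite (F ≃+* F) := Finite.of_injective (fun f : F ≃+* F => (f : F → F)) DFunLike.coe_injective
      have e2 : ρ ^ (2 * m + 1) = 1 := by
        have e3 := pow_card_eq_one' (x := ρ)
        rwa [Cfsg.Agent.Lib.FieldAutCard.card_ringAut (by omega) hF] at e3
      -- `2 m + 1` is the prime `orderOf σ`, different from 5
      have e3 : 2 * m + 1 = orderOf σ := by
        rw [h1] at hcard
        rw [← pow_mul] at hcard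
        have := Nat.pow_right_injective (le_refl 2) hcard
        omega
      have e4 : ¬ 5 ∣ 2 * m + 1 := by
        rw [e3]
        intro h
        have e5 : (5 : ℕ) = orderOf σ := (Nat.prime_dvd_prime_iff_eq (by norm_num) hr).1 h
        have e6 : 5 ∣ Nat.card ↥(Cfsg.Lie.Sz F (2 ^ (m + 1))) :=
          (by norm_num : 5 ∣ 20).trans (by rw [← hX]; exact Subgroup.card_subgroup_dvd_card _)
        rw [← e5] at hc
        exact (Nat.Prime.coprime_iff_not_dvd (by norm_num)).1 hc e6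
      have e5 : Nat.Coprime 20 (2 * m + 1) := by
        rw [show (20 : ℕ) = 2 ^ 2 * 5 by norm_num]
        refine Nat.Coprime.mul_left (Nat.Coprime.pow_left 2 ?_) ((Nat.Prime.coprime_iff_not_dvd (by norm_num)).2 e4)
        rw [Nat.coprime_two_left]
        exact ⟨m, rfl⟩
      have e6 : ρ = 1 := by
        have e7 := pow_gcd_eq_one.2 ⟨e1, e2⟩
        rwa [e5.gcd_eq_one, pow_one] at e7
      rw [hρ, e6, map_one]
    · exact gen_of hα (u_mem_fx hF σ) (Z_le_dc (ofGood (good hF))) (Z_inv hF σ) (gen hm hF σ)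
  · left
    have hs : IsSimpleGroup ↥(fx (fieldAut (stab_sz hF) σ)) := by
      have e1 : IsSimpleGroup ↥(Cfsg.Lie.Sz ↥(Fx σ) (2 ^ (m + 1))) := by
        rw [hsz]
        exact Cfsg.Agent.S1162.result h0 hE
      exact eX.symm.isSimpleGroup
    refine KA.of_simple hα le_rfl hs ?_ le_normalizer (u_mem_fx hF σ) (Z_le_dc (ofGood (good hF))) (Z_inv hF σ)
      (fun x _ hx => hx) (gen hm hF σ)
    intro hcomm
    have e1 := congrArg Subtype.val (hcomm.is_comm.comm
      (⟨(good hF).u 0 1, u_mem_fx hF σ⟩ : ↥(fx (fieldAut (stab_sz hF) σ))) ⟨(good hF).w, w_mem_fx hF σ⟩)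
    have e2 : (ofGood (good hF)).w ∈ (ofGood (good hF)).T :=
      mem_T_of_comm (ofGood (good hF)) ((ofGood (good hF)).u_mem 0 1) ((ofGood (good hF)).u_ne_one one_ne_zero) e1.symm
    obtain ⟨a, b, e3⟩ := e2
    exact (ofGood (good hF)).w_ne a b 1 (by rw [e3, (ofGood (good hF)).d_one, mul_one])

/-- **Suzuki groups satisfy `CG`.** -/
theorem cg_sz {K : Type*} [Group K] (h : Lie.IsoSuzuki K) : CG K := by
  obtain ⟨F, iF, iF', m, hm, hF, ⟨e⟩⟩ := h
  intro α h1 h2
  obtain ⟨e', σ, h3, h4⟩ := (row_sz hm hF).exists_equiv_one e α h2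
  have h5 := cg_field hm hF σ (by rw [h4]; exact h1) (by rw [h4, ← Nat.card_congr e'.toEquiv]; exact h2)
  have h6 : ∀ x, e'.symm (fieldAut (stab_sz hF) σ x) = α (e'.symm x) := by
    intro x
    apply e'.injective
    rw [h3, e'.apply_symm_apply, e'.apply_symm_apply]
  rcases h5 with h7 | h7
  · exact Or.inl (h7.congr e'.symm h6)
  · exact Or.inr (h7.congr e'.symm h6)

end Sz

end Cfsg.Agent.H415.CopSzRow
end

private theorem dce_ebc0ec0317a6 : _root_.True := by
  try have : _root_.True := by simp only [_root_.Cfsg.Agent.ThreePrime.SzRel.ofGood.congr_simp]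
  try have : _root_.True := by simp only [_root_.Cfsg.Agent.LieRecognition.SzMatrix.theta.congr_simp]
  exact _root_.True.intro
end

-- part: H415/CopReeRow
section
prune_inst 0x4300000000012000000000020000040780000000040000100a00800000000400000000030900010000280006008000001000010020000000000000000050000002012040040a000000088000004000000000000000000000000000000000000000000000
set_option linter.all false
open scoped Cfsg.Agent.FastGrp

-- part: H415/CopReeGen
section
/-!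
# S1923: the small Ree groups satisfy `CG` (helper415), part 1: the Bruhat normal form

* `V D` : the group of the `U 0 u 0`; `V_le_dc` : `V ≤ dc (U 0 1 0)`;
* `eq_top` : `n`, `h (-1)`, `U 1 0 0` and `V` generate the group;
* `z_not_mem` : `U 0 1 0` is not in the derived group if `q = 3` and the derived group has index 3.
-/

set_option autoImplicit false

namespace Cfsg.Agent.H415.CopReeGen

open Subgroup Cfsg Cfsg.Agent.H15.CopGen Cfsg.Agent.LieRecognition Cfsg.Agent.LieRecognition.ReeAbs Cfsg.Agent.H71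

variable {K : Type*} [Field K] {G : Type*} [Group G] {m : ℕ} {U : K → K → K → G} {h : Kˣ → G} {n : G}

theorem z3 (m : ℕ) : (0 : K) ^ (3 ^ (m + 1)) = 0 := zero_pow (by positivity)

/-- the group of the `U 0 u 0` -/
def V (D : Data m U h n) : Subgroup G where
  carrier := {g | ∃ u : K, g = U 0 u 0}
  mul_mem' := by
    rintro _ _ ⟨a, rfl⟩ ⟨b, rfl⟩
    exact ⟨a + b, (D.U_add a b).symm⟩
  one_mem' := ⟨0, D.U_zero.symm⟩
  inv_mem' := by
    rintro _ ⟨a, rfl⟩
    exact ⟨-a, (D.U_neg a).symm⟩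

theorem V_le_dc (D : Data m U h n) : V D ≤ dc (U 0 1 0) := by
  rintro _ ⟨y, rfl⟩
  rw [mem_dc]
  intro c hc
  rcases D.bruhat c with ⟨t, u, v, a, rfl⟩ | ⟨t, u, v, a, t', u', v', rfl⟩
  · have h1 : ∀ w : K, U t u v * h a * U 0 w 0 = U t (u + (a : K) ^ (3 ^ (m + 1) + 3) * w) v * h a := by
      intro w
      rw [mul_assoc, D.h_U0, ← mul_assoc, D.U_mul, z3]
      congr 2 <;> ring
    have h2 : ∀ w : K, U 0 w 0 * (U t u v * h a) = U t (w + u) (v - w * t) * h a := by
      intro w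
      rw [← mul_assoc, D.U_mul]
      congr 2 <;> ring
    rw [h1, h2] at hc
    obtain ⟨-, h3, h4, -⟩ := D.inj₁ _ _ _ _ _ _ _ _ hc
    have h5 : t = 0 := by linear_combination h4
    have h6 : (a : K) ^ (3 ^ (m + 1) + 3) = 1 := by linear_combination h3
    rw [h1, h2, h5, h6]
    congr 2 <;> ring
  · exfalso
    have h1 : U t u v * h a * n * U t' u' v' * U 0 1 0 = U t u v * h a * n * U t' (u' + 1) v' := by
      rw [mul_assoc, D.U_mul, z3]
      congr 2 <;> ring
    have h2 : U 0 1 0 * (U t u v * h a * n * U t' u' v') = U t (1 + u) (v - t) * h a * n * U t' u' v' := by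
      rw [← mul_assoc, ← mul_assoc, ← mul_assoc, D.U_mul]
      congr 4 <;> ring
    rw [h1, h2] at hc
    obtain ⟨-, h3, -⟩ := D.inj₂ _ _ _ _ _ _ _ _ _ _ _ _ _ _ hc
    exact one_ne_zero (α := K) (by linear_combination -h3)

section Gen

variable [Fintype K]

/-- **Generation.** -/
theorem eq_top (hK : Fintype.card K = 3 ^ (2 * m + 1)) (D : Data m U h n) {H : Subgroup G} (hn : n ∈ H)
    (hh : h (-1) ∈ H) (hU : U 1 0 0 ∈ H) (hV : V D ≤ H) : H = ⊤ := by
  have R := D.rel hK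
  -- the torus
  have hx : ∀ t : K, U 0 t 0 ∈ H := fun t => hV ⟨t, rfl⟩
  have h1 : ∀ t : K, t ≠ 0 → Data.hf m h (-t) ∈ H := by
    intro t ht
    have e1 := R.rel t ht
    have e2 : Data.hf m h (-t) = (U 0 (-t⁻¹) 0 * n)⁻¹ * (n * U 0 t 0 * n) * (U 0 (-t⁻¹) 0)⁻¹ := by
      have e3 : n * U 0 t 0 * n = U 0 (-t⁻¹) 0 * n * Data.hf m h (-t) * U 0 (-t⁻¹) 0 := e1
      rw [e3]
      group
    rw [e2]
    exact mul_mem (mul_mem (inv_mem (mul_mem (hx _) hn)) (mul_mem (mul_mem hn (hx _)) hn)) (inv_mem (hx _))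
  have h2 : ∀ a : Kˣ, h (f m a) ∈ H := by
    intro a
    have e1 := h1 (-(a : K)) (neg_ne_zero.2 a.ne_zero)
    rw [neg_neg, Data.hf_of_ne a.ne_zero] at e1
    have e2 : Units.mk0 (a : K) a.ne_zero = a := Units.ext rfl
    rwa [e2] at e1
  have h3 : ∀ a : Kˣ, h a ∈ H := by
    intro a
    obtain ⟨k, hk | hk⟩ := exists_f hK a
    · rw [hk]; exact h2 k
    · rw [hk, ← neg_one_mul, D.h_mul]
      exact mul_mem hh (h2 k)
  -- the first coordinates
  have h4 : ∀ t : K, U t 0 0 ∈ H := by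
    intro t
    by_cases ht : t = 0
    · rw [ht, D.U_zero]; exact one_mem _
    · obtain ⟨a, ha⟩ := ReeOut.exists_pow_a (m := m) hK (Units.mk0 t ht)
      have e1 : h a * U 1 0 0 * (h a)⁻¹ = U t 0 0 := by
        rw [D.h_U, mul_inv_cancel_right]
        have e2 := congrArg Units.val ha
        rw [Units.val_pow_eq_pow_val, Units.val_mk0] at e2
        rw [e2]
        congr 1 <;> ring
      rw [← e1]
      exact mul_mem (mul_mem (h3 a) hU) (inv_mem (h3 a))
  -- the third coordinates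
  have h5 : ∀ v : K, U 0 0 v ∈ H := by
    intro v
    have e1 : U 0 (-v) 0 * U 1 0 0 = U 1 0 0 * U 0 (-v) 0 * U 0 0 v := by
      rw [D.U_mul, D.U_mul, D.U_mul, z3]
      congr 1 <;> ring
    have e2 : U 0 0 v = (U 1 0 0 * U 0 (-v) 0)⁻¹ * (U 0 (-v) 0 * U 1 0 0) := by
      rw [e1]
      group
    rw [e2]
    exact mul_mem (inv_mem (mul_mem hU (hx _))) (mul_mem (hx _) hU)
  have h6 : ∀ t u v : K, U t u v ∈ H := by
    intro t u v
    have e1 : U t u v = U t 0 0 * (U 0 u 0 * U 0 0 v) := by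
      rw [D.U_mul, D.U_mul, z3]
      congr 1 <;> ring
    rw [e1]
    exact mul_mem (h4 t) (mul_mem (hx u) (h5 v))
  rw [eq_top_iff]
  intro g _
  rcases D.bruhat g with ⟨t, u, v, a, rfl⟩ | ⟨t, u, v, a, t', u', v', rfl⟩
  · exact mul_mem (h6 _ _ _) (h3 _)
  · exact mul_mem (mul_mem (mul_mem (h6 _ _ _) (h3 _)) hn) (h6 _ _ _)

end Gen

/-! ### The group over the field with three elements -/

section Three

variable {E : Type*} [Field E] [Fintype E] {U : E → E → E → G} {h : Eˣ → G} {n : G}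

theorem cases_three (hE : Fintype.card E = 3 ^ (2 * 0 + 1)) (x : E) : x = 0 ∨ x = 1 ∨ x = -1 := by
  have h1 := FiniteField.pow_card x
  rw [hE] at h1
  have h2 : x * ((x - 1) * (x + 1)) = 0 := by linear_combination h1
  rcases mul_eq_zero.1 h2 with h3 | h3
  · exact Or.inl h3
  · rcases mul_eq_zero.1 h3 with h4 | h4
    · exact Or.inr (Or.inl (sub_eq_zero.1 h4))
    · exact Or.inr (Or.inr (eq_neg_of_add_eq_zero_left h4))

/-- a homomorphism from the group over the field with three elements to a group of exponent three, trivial on `z` -/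
theorem hom_trivial (hE : Fintype.card E = 3 ^ (2 * 0 + 1)) (D : Data 0 U h n) {A : Type*} [CommGroup A]
    (φ : G →* A) (h3 : ∀ x : A, x ^ 3 = 1) (hz : φ (U 0 1 0) = 1) (g : G) : φ g = 1 := by
  have sq : ∀ x : A, x * x = 1 → x = 1 := by
    intro x hx
    have e1 := h3 x
    rw [pow_succ, pow_two, hx, one_mul] at e1
    exact e1
  have hφn : φ n = 1 := sq _ (by rw [← map_mul, D.n_n, map_one])
  have hφh : ∀ a : Eˣ, φ (h a) = 1 := by
    intro a
    apply sq
    rw [← map_mul, ← D.h_mul]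
    have e1 : a * a = 1 := by
      apply Units.ext
      rcases cases_three hE (a : E) with e2 | e2 | e2
      · exact absurd e2 a.ne_zero
      · rw [Units.val_mul, e2, mul_one, Units.val_one]
      · rw [Units.val_mul, e2, Units.val_one]; ring
    rw [e1, D.h_one, map_one]
  have hx : ∀ u : E, φ (U 0 u 0) = 1 := by
    intro u
    rcases cases_three hE u with rfl | rfl | rfl
    · rw [D.U_zero, map_one]
    · exact hz
    · rw [D.U_neg, map_inv, hz, inv_one]
  have h5 : ∀ v : E, φ (U 0 0 v) = 1 := by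
    intro v
    have e1 : U 0 (-v) 0 * U 1 0 0 = U 1 0 0 * U 0 (-v) 0 * U 0 0 v := by
      rw [D.U_mul, D.U_mul, D.U_mul, z3]
      congr 1 <;> ring
    have e2 := congrArg φ e1
    rw [map_mul, map_mul, map_mul, mul_comm (φ (U 1 0 0)), eq_comm, mul_eq_left] at e2
    exact e2
  have h4 : ∀ t : E, φ (U t 0 0) = 1 := by
    intro t
    apply sq
    have e1 : φ (U t 0 0) = φ (U (-t) 0 0) := by
      have e2 := congrArg φ (D.inv_mul_U t 0 0)
      rw [map_mul, map_mul, hφh, one_mul, mul_one, neg_zero] at e2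
      exact e2
    have e2 : U (-t) 0 0 * U t 0 0 =
        U 0 (t * t ^ (3 ^ (0 + 1))) 0 * U 0 0 (-t ^ 2 * t ^ (3 ^ (0 + 1)) - t * t * t ^ (3 ^ (0 + 1))) := by
      rw [D.U_mul, D.U_mul, z3]
      congr 1 <;> ring
    nth_rewrite 1 [e1]
    rw [← map_mul, e2, map_mul, hx, h5, one_mul]
  have h6 : ∀ t u v : E, φ (U t u v) = 1 := by
    intro t u v
    have e1 : U t u v = U t 0 0 * (U 0 u 0 * U 0 0 v) := by
      rw [D.U_mul, D.U_mul, z3]
      congr 1 <;> ring
    rw [e1, map_mul, map_mul, h4, hx, h5, one_mul, one_mul]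
  rcases D.bruhat g with ⟨t, u, v, a, rfl⟩ | ⟨t, u, v, a, t', u', v', rfl⟩
  · rw [map_mul, h6, hφh, one_mul]
  · rw [map_mul, map_mul, map_mul, h6, hφh, hφn, h6, one_mul, one_mul, one_mul]

theorem z_not_mem [Finite G] (hE : Fintype.card E = 3 ^ (2 * 0 + 1)) (D : Data 0 U h n)
    (hc : (commutator G).index = 3) : U 0 1 0 ∉ commutator G := by
  intro hz
  have hcard : Nat.card (Abelianization G) = 3 := by
    rw [← hc]
    rfl
  have h3 : ∀ x : Abelianization G, x ^ 3 = 1 := by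
    intro x
    rw [← hcard]
    exact pow_card_eq_one'
  have h1 : ∀ g : G, Abelianization.of g = 1 := fun g => by
    refine hom_trivial hE D Abelianization.of h3 ?_ g
    exact (QuotientGroup.eq_one_iff _).2 hz
  have h2 : ∀ x : Abelianization G, x = 1 := by
    intro x
    obtain ⟨g, rfl⟩ := QuotientGroup.mk'_surjective (commutator G) x
    exact h1 g
  have h4 : Nat.card (Abelianization G) = 1 := by
    rw [Nat.card_eq_one_iff_unique]
    exact ⟨⟨fun a b => by rw [h2 a, h2 b]⟩, ⟨1⟩⟩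
  omega

/-- the derived group and `z` generate -/
theorem sup_zpowers [Finite G] (hE : Fintype.card E = 3 ^ (2 * 0 + 1)) (D : Data 0 U h n)
    (hc : (commutator G).index = 3) : commutator G ⊔ zpowers (U 0 1 0) = ⊤ := by
  have h1 := z_not_mem hE D hc
  have h2 : commutator G ≤ commutator G ⊔ zpowers (U 0 1 0) := le_sup_left
  have h3 := Subgroup.relIndex_mul_index h2
  rw [hc] at h3
  have h4 : (commutator G ⊔ zpowers (U 0 1 0)).index ∣ 3 := ⟨_, by rw [← h3, mul_comm]⟩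
  rcases (Nat.dvd_prime Nat.prime_three).1 h4 with h5 | h5
  · exact Subgroup.index_eq_one.1 h5
  · exfalso
    rw [h5] at h3
    have h6 : (commutator G).relIndex (commutator G ⊔ zpowers (U 0 1 0)) = 1 := by omega
    rw [Subgroup.relIndex_eq_one] at h6
    exact h1 (h6 (mem_sup_right (mem_zpowers _)))

end Three

end Cfsg.Agent.H415.CopReeGen
end

-- part: H415/CopReeRow
section
/-!
# S1923: the small Ree groups satisfy `CG` (helper415), part 2
-/

set_option autoImplicit false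

namespace Cfsg.Agent.H415.CopReeRow

open Cfsg.Lie Cfsg.Agent.ChevStructure.FieldMap Cfsg.Agent.ChevalleyStructure.Ree.Gens
  Cfsg.Agent.ChevalleyStructure.Ree.Checks Cfsg.Agent.ChevalleyStructure.Ree.Normal
  Cfsg.Agent.ChevalleyStructure.Ree Cfsg.Agent.H71 Cfsg.Agent.LieRecognition
  Cfsg.Agent.H967.CopMat Cfsg.Agent.H967.CopSz Cfsg.Agent.H967.CopFix Cfsg.Agent.H15.CopGen
  Cfsg.Agent.H415.CopReeGen

/-! ### Field homomorphisms on the generators -/

section Map

variable {E F : Type*} [Field E] [Field F] (f : E →+* F) (e : ℕ)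

theorem map_wU (t u v : E) : Matrix.GeneralLinearGroup.map f (wU e t u v) = wU e (f t) (f u) (f v) := by
  apply Units.ext
  show ((wU e t u v : GL chevG2.Idx E) : Matrix chevG2.Idx chevG2.Idx E).map f = _
  rw [coe_wU, coe_wU]
  refine (wordMat_map chevG2 f _).trans ?_
  show chevG2.wordMat F _ = chevG2.wordMat F _
  congr 1
  simp [reeWordU]

theorem map_nU : Matrix.GeneralLinearGroup.map f (nU E) = nU F := by
  apply Units.ext
  show ((nU E : GL chevG2.Idx E) : Matrix chevG2.Idx chevG2.Idx E).map f = _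
  rw [coe_nU, coe_nU]
  ext i j
  rw [Matrix.map_apply]
  rcases i with i | i <;> rcases j with j | j
  · show f (if i = j then -1 else 0) = (if i = j then -1 else 0)
    split_ifs <;> simp
  · exact map_zero f
  · exact map_zero f
  · show f (if i.val + j.val = 11 then -1 else 0) = (if i.val + j.val = 11 then -1 else 0)
    split_ifs <;> simp

theorem map_tU (a : Eˣ) : Matrix.GeneralLinearGroup.map f (tU e a) = tU e (Units.map (f : E →* F) a) := by
  apply Units.ext
  show ((tU e a : GL chevG2.Idx E) : Matrix chevG2.Idx chevG2.Idx E).map f = _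
  rw [coe_tU, coe_tU]
  have h1 : ((Units.map (f : E →* F) a : Fˣ) : F) = f a := rfl
  rw [h1, hMat, hMat, Matrix.diagonal_map (map_zero f)]
  congr 1
  ext i
  rcases i with i | i
  · exact map_one f
  · show f ((a : E) ^ rootA i.val * ((a : E) ^ (3 * e)) ^ rootB i.val) = _
    rw [map_mul, map_zpow₀, map_zpow₀, map_pow]

variable {e} {e₀ : ℕ}

theorem wU_congr (h : ∀ x : E, x ^ e = x ^ e₀) (t u v : E) : wU e t u v = wU e₀ t u v := by
  unfold wU
  congr 1
  simp only [reeWordU, pow_succ, pow_mul', h]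

theorem tU_congr (h : ∀ x : E, x ^ e = x ^ e₀) (a : Eˣ) : tU e a = tU e₀ a := by
  unfold tU
  congr 1
  apply Units.ext
  rw [Units.val_pow_eq_pow_val, Units.val_pow_eq_pow_val, pow_mul, pow_mul, h]

/-- The embedding of the group over a subfield. -/
def emb (hc : ∀ x : E, x ^ e = x ^ e₀) : ↥(twistedG2 E e₀) →* ↥(twistedG2 F e) where
  toFun g := ⟨Matrix.GeneralLinearGroup.map f g.1, words_g2 f e ⟨g.1, by rw [twistedG2_congr hc]; exact g.2, rfl⟩⟩
  map_one' := Subtype.ext (map_one _)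
  map_mul' a b := Subtype.ext (map_mul _ _ _)

theorem emb_injective (hc : ∀ x : E, x ^ e = x ^ e₀) : Function.Injective (emb f hc) := by
  intro a b hab
  exact Subtype.ext (map_injective f (congrArg Subtype.val hab))

theorem emb_U (hc : ∀ x : E, x ^ e = x ^ e₀) (t u v : E) :
    emb f hc (Data.U E e₀ t u v) = Data.U F e (f t) (f u) (f v) := by
  apply Subtype.ext
  show Matrix.GeneralLinearGroup.map f (wU e₀ t u v) = wU e (f t) (f u) (f v)
  rw [← wU_congr hc, map_wU]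

theorem emb_T (hc : ∀ x : E, x ^ e = x ^ e₀) {θ₀ : E →+* E} (c₀ : Ctx θ₀ e₀) {θ : F →+* F} (c : Ctx θ e) (a : Eˣ) :
    emb f hc (Data.T c₀ a) = Data.T c (Units.map (f : E →* F) a) := by
  apply Subtype.ext
  show Matrix.GeneralLinearGroup.map f (tU e₀ a) = tU e _
  rw [← tU_congr hc, map_tU]

theorem emb_N (hc : ∀ x : E, x ^ e = x ^ e₀) {θ₀ : E →+* E} (c₀ : Ctx θ₀ e₀) {θ : F →+* F} (c : Ctx θ e) :
    emb f hc (Data.N c₀) = Data.N c :=
  Subtype.ext (map_nU f)

end Map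

/-! ### The field automorphisms -/

section Fld

variable {F : Type*} [Field F] (σ : F ≃+* F)

theorem fa_U (e : ℕ) (t u v : F) : fieldAut (stab_g2 e) σ (Data.U F e t u v) = Data.U F e (σ t) (σ u) (σ v) :=
  Subtype.ext (map_wU (σ : F →+* F) e t u v)

variable {e : ℕ} {θ : F →+* F} (c : Ctx θ e)

theorem fa_T (a : Fˣ) : fieldAut (stab_g2 e) σ (Data.T c a) = Data.T c (Units.map ((σ : F →+* F) : F →* F) a) :=
  Subtype.ext (map_tU (σ : F →+* F) e a)

theorem fa_N : fieldAut (stab_g2 e) σ (Data.N c) = Data.N c :=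
  Subtype.ext (map_nU (σ : F →+* F))

end Fld

section Fix

variable {F : Type*} [Field F] [Fintype F] {m m₀ : ℕ} (σ : F ≃+* F)

theorem fx_eq {θ : F →+* F} (c : Ctx θ (3 ^ m)) {θ₀ : ↥(Fx σ) →+* ↥(Fx σ)} (c₀ : Ctx θ₀ (3 ^ m₀))
    (hc : ∀ x : ↥(Fx σ), x ^ 3 ^ m = x ^ 3 ^ m₀) :
    fx (fieldAut (stab_g2 (3 ^ m)) σ) = (emb (Fx σ).subtype hc).range := by
  apply le_antisymm
  · intro g hg
    have hg' : fieldAut (stab_g2 (3 ^ m)) σ g = g := hg
    have hu : ∀ a : Fˣ, Units.map ((σ : F →+* F) : F →* F) a = a → ∃ b : (↥(Fx σ))ˣ,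
        Units.map (((Fx σ).subtype : ↥(Fx σ) →+* F) : ↥(Fx σ) →* F) b = a := by
      intro a ha
      have h1 : σ (a : F) = a := congrArg Units.val ha
      refine ⟨Units.mk0 ⟨(a : F), h1⟩ (fun h0 => a.ne_zero (congrArg Subtype.val h0)), Units.ext rfl⟩
    rcases (Data.data c).bruhat g with ⟨t, u, v, a, rfl⟩ | ⟨t, u, v, a, t', u', v', rfl⟩
    · rw [map_mul, fa_U, fa_T] at hg'
      obtain ⟨h1, h2, h3, h4⟩ := (Data.data c).inj₁ _ _ _ _ _ _ _ _ hg'
      obtain ⟨b, hb⟩ := hu a h4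
      refine ⟨Data.U _ (3 ^ m₀) ⟨t, h1⟩ ⟨u, h2⟩ ⟨v, h3⟩ * Data.T c₀ b, ?_⟩
      rw [map_mul, emb_U, emb_T (c := c), hb]
      rfl
    · rw [map_mul, map_mul, map_mul, fa_U, fa_T, fa_N, fa_U] at hg'
      obtain ⟨h1, h2, h3, h4, h5, h6, h7⟩ := (Data.data c).inj₂ _ _ _ _ _ _ _ _ _ _ _ _ _ _ hg'
      obtain ⟨b, hb⟩ := hu a h4
      refine ⟨Data.U _ (3 ^ m₀) ⟨t, h1⟩ ⟨u, h2⟩ ⟨v, h3⟩ * Data.T c₀ b * Data.N c₀ *
        Data.U _ (3 ^ m₀) ⟨t', h5⟩ ⟨u', h6⟩ ⟨v', h7⟩, ?_⟩
      rw [map_mul, map_mul, map_mul, emb_U, emb_U, emb_T (c := c), emb_N (c := c), hb]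
      rfl
  · rintro _ ⟨g, rfl⟩
    exact Subtype.ext (map_fixed σ g.1)

/-- the group over the fixed field -/
noncomputable def fxEquiv {θ : F →+* F} (c : Ctx θ (3 ^ m)) {θ₀ : ↥(Fx σ) →+* ↥(Fx σ)} (c₀ : Ctx θ₀ (3 ^ m₀))
    (hc : ∀ x : ↥(Fx σ), x ^ 3 ^ m = x ^ 3 ^ m₀) :
    ↥(twistedG2 ↥(Fx σ) (3 ^ m₀)) ≃* ↥(fx (fieldAut (stab_g2 (3 ^ m)) σ)) :=
  (MonoidHom.ofInjective (emb_injective (Fx σ).subtype hc)).trans (MulEquiv.subgroupCongr (fx_eq σ c c₀ hc).symm)

theorem V_inv {θ : F →+* F} (c : Ctx θ (3 ^ m)) :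
    ∀ x ∈ V (Data.data c), fieldAut (stab_g2 (3 ^ m)) σ x ∈ V (Data.data c) := by
  rintro _ ⟨u, rfl⟩
  refine ⟨σ u, ?_⟩
  rw [fa_U, map_zero]

theorem z_fix {θ : F →+* F} (c : Ctx θ (3 ^ m)) :
    fieldAut (stab_g2 (3 ^ m)) σ (Data.U F (3 ^ m) 0 1 0) = Data.U F (3 ^ m) 0 1 0 := by
  rw [fa_U, map_zero, map_one]

theorem gen (hF : Fintype.card F = 3 ^ (2 * m + 1)) {θ : F →+* F} (c : Ctx θ (3 ^ m)) :
    fx (fieldAut (stab_g2 (3 ^ m)) σ) ⊔ V (Data.data c) = ⊤ := by
  have h1 : fx (fieldAut (stab_g2 (3 ^ m)) σ) ≤ fx (fieldAut (stab_g2 (3 ^ m)) σ) ⊔ V (Data.data c) := le_sup_left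
  refine eq_top hF (Data.data c) (h1 ?_) (h1 ?_) (h1 ?_) le_sup_right
  · exact fa_N σ c
  · show fieldAut (stab_g2 (3 ^ m)) σ _ = _
    rw [fa_T]
    congr 1
    apply Units.ext
    show σ ((-1 : Fˣ) : F) = ((-1 : Fˣ) : F)
    rw [Units.val_neg, Units.val_one, map_neg, map_one]
  · show fieldAut (stab_g2 (3 ^ m)) σ _ = _
    rw [fa_U, map_zero, map_one]

/-- `n` and `U 1 0 0` do not commute -/
theorem not_comm {θ : F →+* F} (c : Ctx θ (3 ^ m)) :
    Data.U F (3 ^ m) 1 0 0 * Data.N c ≠ Data.N c * Data.U F (3 ^ m) 1 0 0 := by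
  intro h1
  have D := Data.data c
  have h2 : Data.U F (3 ^ m) 1 0 0 * Data.T c 1 * Data.N c * Data.U F (3 ^ m) 0 0 0 =
      Data.U F (3 ^ m) 0 0 0 * Data.T c 1 * Data.N c * Data.U F (3 ^ m) 1 0 0 := by
    rw [D.U_zero, D.h_one, mul_one, mul_one, one_mul, one_mul]
    exact h1
  exact one_ne_zero (D.inj₂ _ _ _ _ _ _ _ _ _ _ _ _ _ _ h2).1

/-- the group over the field with three elements: the derived group -/
theorem three_facts {E : Type*} [Field E] [Fintype E] (hE : Fintype.card E = 3 ^ (2 * 0 + 1)) :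
    (commutator ↥(twistedG2 E (3 ^ 0))).index = 3 ∧ IsSimpleGroup ↥(commutator ↥(twistedG2 E (3 ^ 0))) ∧
      ¬ IsMulCommutative ↥(commutator ↥(twistedG2 E (3 ^ 0))) := by
  classical
  obtain ⟨θ, c⟩ := exists_ctx hE
  have D := Data.data c
  have h2 : Fact (Nat.Prime 2) := ⟨Nat.prime_two⟩
  have : Fintype (GaloisField 2 3) := Fintype.ofFinite _
  have hL : Fintype.card (GaloisField 2 3) = 8 := by
    rw [← Nat.card_eq_fintype_card, GaloisField.card 2 3 (by norm_num)]; norm_num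
  obtain ⟨h504, ⟨ψ⟩⟩ := S1075.result hL
  obtain ⟨φ⟩ := H362.ReeField.twistedG2_congr (F := E) (K := ZMod 3) (by rw [hE, ZMod.card]; norm_num) 1
  have φ' : ↥(twistedG2 E (3 ^ 0)) ≃* ↥(twistedG2 (ZMod 3) 1) := φ
  have hmap : (commutator ↥(twistedG2 E (3 ^ 0))).map φ'.toMonoidHom = commutator ↥(twistedG2 (ZMod 3) 1) := by
    rw [commutator_def, commutator_def, Subgroup.map_commutator, Subgroup.map_top_of_surjective _ φ'.surjective]
  have ec : ↥(commutator ↥(twistedG2 E (3 ^ 0))) ≃* ↥(commutator ↥(twistedG2 (ZMod 3) 1)) :=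
    (Subgroup.equivMapOfInjective _ φ'.toMonoidHom φ'.injective).trans (MulEquiv.subgroupCongr hmap)
  have hcard : Nat.card ↥(commutator ↥(twistedG2 E (3 ^ 0))) = 504 := by
    rw [Nat.card_congr ec.toEquiv, h504]
  have hfin : Finite ↥(twistedG2 E (3 ^ 0)) := ReeSylowThree.finite D
  have hG : Nat.card ↥(twistedG2 E (3 ^ 0)) = 1512 := by
    rw [ReeSylowThree.card_eq D, hE]
    norm_num
  have hidx := (commutator ↥(twistedG2 E (3 ^ 0))).card_mul_index
  rw [hcard, hG] at hidx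
  have hsimp : IsSimpleGroup (Matrix.ProjectiveSpecialLinearGroup (Fin 2) (GaloisField 2 3)) := by
    apply Matrix.ProjectiveSpecialLinearGroup.rank_two_simple
    rw [Nat.card_eq_fintype_card, hL]
    norm_num
  have hs : IsSimpleGroup ↥(commutator ↥(twistedG2 E (3 ^ 0))) := (ec.trans ψ).isSimpleGroup
  refine ⟨by omega, hs, fun hcomm => ?_⟩
  -- an abelian simple group has prime order
  let _ : CommGroup ↥(commutator ↥(twistedG2 E (3 ^ 0))) :=
    { mul_comm := fun a b => hcomm.is_comm.comm a b }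
  have hp : (Nat.card ↥(commutator ↥(twistedG2 E (3 ^ 0)))).Prime := IsSimpleGroup.prime_card
  rw [hcard] at hp
  norm_num at hp

end Fix

/-- **Field automorphisms of the small Ree groups.** -/
theorem ka_field {F : Type*} [Field F] [Fintype F] {m : ℕ} (hm : 1 ≤ m) (hF : Fintype.card F = 3 ^ (2 * m + 1))
    (σ : F ≃+* F) (hc : (orderOf σ).Coprime (Nat.card ↥(twistedG2 F (3 ^ m)))) :
    KA (fieldAut (stab_g2 (3 ^ m)) σ) := by
  have hsimp := (Cfsg.Agent.S1073.result hm hF).1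
  obtain ⟨θ, c⟩ := exists_ctx hF
  have hfin : Finite ↥(twistedG2 F (3 ^ m)) := ReeSylowThree.finite (Data.data c)
  have hord : orderOf (fieldAut (stab_g2 (3 ^ m)) σ) = orderOf σ := orderOf_injective _ (row_ree hm hF).inj σ
  have hα : (orderOf (fieldAut (stab_g2 (3 ^ m)) σ)).Coprime (Nat.card ↥(twistedG2 F (3 ^ m))) := by
    rw [hord]; exact hc
  have hcard := card_Fx σ
  rw [Nat.card_eq_fintype_card, hF] at hcard
  obtain ⟨m₀, j, h1, h2⟩ := H967.CopFix.exists_odd_exp Nat.prime_three hcard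
  have : Fintype ↥(Fx σ) := Fintype.ofFinite _
  have hE : Fintype.card ↥(Fx σ) = 3 ^ (2 * m₀ + 1) := by rw [← Nat.card_eq_fintype_card, h1]
  obtain ⟨θ₀, c₀⟩ := exists_ctx hE
  have hpow : ∀ x : ↥(Fx σ), x ^ 3 ^ m = x ^ 3 ^ m₀ := pow_eq h1 h2
  rcases Nat.eq_zero_or_pos m₀ with h0 | h0
  · subst h0
    obtain ⟨hidx, hs, hna⟩ := three_facts hE
    have hfin₀ : Finite ↥(twistedG2 ↥(Fx σ) (3 ^ 0)) := ReeSylowThree.finite (Data.data c₀)
    have hinj := emb_injective (Fx σ).subtype hpow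
    have hfx := fx_eq σ c c₀ hpow
    let M := (commutator ↥(twistedG2 ↥(Fx σ) (3 ^ 0))).map (emb (Fx σ).subtype hpow)
    let eM : ↥(commutator ↥(twistedG2 ↥(Fx σ) (3 ^ 0))) ≃* ↥M :=
      (commutator ↥(twistedG2 ↥(Fx σ) (3 ^ 0))).equivMapOfInjective _ hinj
    have hz : emb (Fx σ).subtype hpow (Data.U ↥(Fx σ) (3 ^ 0) 0 1 0) = Data.U F (3 ^ m) 0 1 0 := by
      rw [emb_U, map_zero, map_one]
    refine KA.of_residual (J := fx (fieldAut (stab_g2 (3 ^ m)) σ)) (M := M) hα ?_ eM.symm.isSimpleGroup ?_ ?_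
      (z_fix σ c) ?_ (V_le_dc (Data.data c)) (V_inv σ c) (fun x _ hx => hx) (gen σ hF c)
    · rw [hfx]
      exact Subgroup.map_le_range _ _
    · intro hcomm
      apply hna
      refine ⟨⟨fun a b => eM.injective ?_⟩⟩
      rw [map_mul, map_mul]
      exact hcomm.is_comm.comm _ _
    · rw [hfx]
      rintro _ ⟨g, rfl⟩
      refine Transfer.FusionBasic.mem_normalizer_of_conj_mem ?_
      rintro _ ⟨y, hy, rfl⟩
      refine ⟨g * y * g⁻¹, ?_, by rw [map_mul, map_mul, map_inv]⟩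
      exact (inferInstance : (commutator ↥(twistedG2 ↥(Fx σ) (3 ^ 0))).Normal).conj_mem y hy g
    · have h3 := congrArg (Subgroup.map (emb (Fx σ).subtype hpow)) (sup_zpowers hE (Data.data c₀) hidx)
      rw [Subgroup.map_sup, ← MonoidHom.range_eq_map, MonoidHom.map_zpowers, hz, ← hfx] at h3
      refine h3.symm.le.trans (sup_le_sup_left ?_ M)
      rw [Subgroup.zpowers_le]
      refine Subgroup.mem_inf.2 ⟨z_fix σ c, ?_⟩
      rw [Subgroup.mem_centralizer_singleton_iff]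
  · have eX := fxEquiv σ c c₀ hpow
    have hs : IsSimpleGroup ↥(fx (fieldAut (stab_g2 (3 ^ m)) σ)) := by
      have := (Cfsg.Agent.S1073.result h0 hE).1
      exact eX.symm.isSimpleGroup
    refine KA.of_simple hα le_rfl hs ?_ Subgroup.le_normalizer (z_fix σ c) (V_le_dc (Data.data c)) (V_inv σ c)
      (fun x _ hx => hx) (gen σ hF c)
    intro hcomm
    have hu : Data.U F (3 ^ m) 1 0 0 ∈ fx (fieldAut (stab_g2 (3 ^ m)) σ) := by
      show fieldAut (stab_g2 (3 ^ m)) σ _ = _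
      rw [fa_U, map_zero, map_one]
    have hn : Data.N c ∈ fx (fieldAut (stab_g2 (3 ^ m)) σ) := fa_N σ c
    exact not_comm c (congrArg Subtype.val (hcomm.is_comm.comm
      (⟨_, hu⟩ : ↥(fx (fieldAut (stab_g2 (3 ^ m)) σ))) ⟨_, hn⟩))

/-- **The small Ree groups satisfy `CG`.** -/
theorem cg_ree {K : Type*} [Group K] (h : Lie.IsoRee K) : CG K := by
  obtain ⟨F, iF, iF', m, hm, hF, ⟨e⟩⟩ := h
  intro α h1 h2
  obtain ⟨e', σ, h3, h4⟩ := (row_ree hm hF).exists_equiv_one e α h2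
  have h5 := ka_field hm hF σ (by rw [h4, ← Nat.card_congr e'.toEquiv]; exact h2)
  have h6 : ∀ x, e'.symm (fieldAut (stab_g2 (3 ^ m)) σ x) = α (e'.symm x) := by
    intro x
    apply e'.injective
    rw [h3, e'.apply_symm_apply, e'.apply_symm_apply]
  exact Or.inl (h5.congr e'.symm h6)

end Cfsg.Agent.H415.CopReeRow
end
end
end
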