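import Mathlib
import Cfsg.Agent.H60.TRowTwF4
import Cfsg.Agent.H545.LT.Defs_m3
import Cfsg.Agent.H70.OutCount
import Cfsg.Agent.S1054
import Cfsg.Agent.S1055
import Cfsg.Agent.S1065
import Cfsg.Agent.Prune
set_option linter.all false

section
prune_inst 0x7f00000000000000000000000000000000000000000000000000000000000000000000000000000000000000000000000000000000000000000000000000000000000000000000000000000000000000003fffffffffdfffffffffffffffffbeffbdffffffff

-- part: H967/FaBase
section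
set_option linter.all false
open scoped Cfsg.Agent.FastGrp

/-!
# Field automorphisms of matrix groups: the criterion for `FieldAct`
-/

set_option autoImplicit false

open scoped Pointwise

namespace Cfsg.Agent.H967.FaBase

open Cfsg.Lie Cfsg.Agent.H967.CopMat Cfsg.Agent.H967.CopRow Cfsg.Agent.H967.CopChev Cfsg.Agent.H545.LT

/-- The criterion. -/
theorem fieldAct_of {ι : Type*} [Fintype ι] [DecidableEq ι] {F : Type} [Field F] [Fintype F] {G : Subgroup (GL ι F)}
    (hG : Stab G) (hs : Group.IsSolvable (Cfsg.Out ↥G)) {p f c : ℕ} [Fact p.Prime] [CharP F p] (hf : 1 ≤ f)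
    (hF : Fintype.card F = p ^ f) {P L : Set ℕ}
    (hinn : ∀ σ : F ≃+* F, σ ≠ 1 → fieldAut hG σ ∉ Cfsg.Inn ↥G)
    (hc : Nat.card (Cfsg.Out ↥G) ∣ c * f) (hcP : ∀ r : ℕ, r.Prime → r ∣ c → r ∈ P)
    (hL : ∀ σ : F ≃+* F, (orderOf σ).Prime → orderOf σ ∉ P → ∀ s ∈ L, ∃ x : ↥G, orderOf x = s ∧ fieldAut hG σ x = x) :
    FieldAct ↥G P L := by
  have hfin : Finite (F ≃+* F) := Finite.of_injective (fun f : F ≃+* F => (f : F → F)) DFunLike.coe_injective
  have hcard : Nat.card (F ≃+* F) = f := Cfsg.Agent.Lib.FieldAutCard.card_ringAut hf hF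
  obtain ⟨τ, hτ⟩ := exists_ringAut p f hF
  have hcyc : IsCyclic (F ≃+* F) := isCyclic_of_orderOf_eq_card τ (by rw [hτ, hcard])
  refine ⟨hs, (F ≃+* F), inferInstance, hfin, hcyc, fieldAut hG, ?_, ?_, hL⟩
  · intro σ hσ _
    refine hinn σ ?_
    rintro rfl
    rw [orderOf_one] at hσ
    exact Nat.not_prime_one hσ
  · intro r hr hrP k hk
    rw [hcard]
    have h1 : (r ^ k).Coprime c := by
      apply Nat.Coprime.pow_left
      rw [hr.coprime_iff_not_dvd]
      exact fun h => hrP (hcP r hr h)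
    exact h1.dvd_of_dvd_mul_left (hk.trans hc)

/-- Elements over the fixed field give fixed elements. -/
theorem exists_fixed {ι : Type*} [Fintype ι] [DecidableEq ι] {F : Type*} [Field F] {G : Subgroup (GL ι F)}
    (hG : Stab G) (σ : F ≃+* F) {G₀ : Subgroup (GL ι ↥(Fx σ))}
    (h : G₀.map (Matrix.GeneralLinearGroup.map (Fx σ).subtype) ≤ G) (y : ↥G₀) :
    ∃ x : ↥G, orderOf x = orderOf y ∧ fieldAut hG σ x = x := by
  let f₀ : ↥G₀ →* ↥G :=
    { toFun := fun g => ⟨Matrix.GeneralLinearGroup.map (Fx σ).subtype g.1, h ⟨g.1, g.2, rfl⟩⟩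
      map_one' := Subtype.ext (map_one _)
      map_mul' := fun a b => Subtype.ext (map_mul _ _ _) }
  refine ⟨f₀ y, orderOf_injective f₀ ?_ y, Subtype.ext (map_fixed σ y.1)⟩
  intro a b hab
  exact Subtype.ext (map_injective (Fx σ).subtype (congrArg Subtype.val hab))

/-- The same from the order of the group over the fixed field. -/
theorem exists_fixed_of_dvd {ι : Type*} [Fintype ι] [DecidableEq ι] {F : Type*} [Field F] [Finite F]
    {G : Subgroup (GL ι F)} (hG : Stab G) (σ : F ≃+* F) {G₀ : Subgroup (GL ι ↥(Fx σ))}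
    (h : G₀.map (Matrix.GeneralLinearGroup.map (Fx σ).subtype) ≤ G) {s : ℕ} (hs : s.Prime) (hd : s ∣ Nat.card ↥G₀) :
    ∃ x : ↥G, orderOf x = s ∧ fieldAut hG σ x = x := by
  have : Fact s.Prime := ⟨hs⟩
  obtain ⟨y, hy⟩ := exists_prime_orderOf_dvd_card' s hd
  obtain ⟨x, hx, hx'⟩ := exists_fixed hG σ h y
  exact ⟨x, by rw [hx, hy], hx'⟩

/-! ### Chevalley groups -/

section Chev

open Cfsg Cfsg.Lie Cfsg.Agent.ChevalleyStructure Cfsg.Agent.ChevalleyStructure.Elts
  Cfsg.Agent.ChevalleyStructure.NConj Cfsg.Agent.ChevalleyStructure.BNChev Cfsg.Agent.S1042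
  Cfsg.Agent.Schreier.ChevLocal Cfsg.Agent.H70.AutFix Cfsg.Agent.H70.ChevTab Cfsg.Agent.H70.ChevFix
  Cfsg.Agent.H70.ChevField Cfsg.Agent.H70.PermFix Cfsg.Agent.H70.ChevDiag Cfsg.Agent.H70.OutCount

universe u

variable {D : ChevalleyDatum} (hD : InList D) {F : Type u} [Field F]

theorem fieldAut_xe (σ : F ≃+* F) (r : ℕ) (t : F) :
    fieldAut (stab_group D F) σ (xe hD r t) = xe hD r (σ t) := by
  apply Subtype.ext
  refine Units.ext ?_
  show (D.x F r t).map (σ : F →+* F) = D.x F r (σ t)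
  exact ChevStructure.FieldMap.x_map D (σ : F →+* F) r t

include hD in
theorem fieldAut_XX (σ : F ≃+* F) (r : ℕ) : fieldAut (stab_group D F) σ • XX D F r = XX D F r := by
  apply le_antisymm
  · intro g hg
    rw [mem_smul_iff, mem_XX hD] at hg
    obtain ⟨t, ht⟩ := hg
    rw [mem_XX hD]
    refine ⟨σ t, ?_⟩
    rw [← fieldAut_xe hD, ← ht, MulAut.apply_inv_self]
  · intro g hg
    rw [mem_XX hD] at hg
    obtain ⟨t, rfl⟩ := hg
    rw [mem_smul_iff, mem_XX hD, ← map_inv]
    exact ⟨(σ⁻¹ : F ≃+* F) t, fieldAut_xe hD _ _ _⟩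

/-- Field automorphisms are not inner. -/
theorem not_inner [Finite F] (hD : InList D) (σ : F ≃+* F) (h1 : σ ≠ 1) : fieldAut (stab_group D F) σ ∉ Cfsg.Inn ↥(D.group F) := by
  rintro ⟨x, hx⟩
  have hP : Perm D F (fieldAut (stab_group D F) σ) 1 :=
    ⟨fun i => fieldAut_XX hD σ _, fun i => fieldAut_XX hD σ _⟩
  rw [← hx] at hP
  have h2 : x ∈ HH D F := by
    rw [← normalizer_inf hD, Subgroup.mem_inf, mem_normalizer_iff_smul, mem_normalizer_iff_smul]
    exact ⟨Perm.smul_UU hD hP, Perm.smul_VN hD hP⟩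
  have h0 := nroots_pos hD
  obtain ⟨c, hc, h3⟩ := diagonal_conj hD h2 h0
  have h4 : ∀ t : F, σ t = c * t := fun t => by
    have h5 := fieldAut_xe (D := D) hD σ 0 t
    rw [← hx] at h5
    have h6 := congrArg Subtype.val h5
    have h7 := h3 t
    exact (xG_injective hD h0 (h7.symm.trans h6)).symm
  apply h1
  ext t
  have h9 := h4 1
  rw [map_one, mul_one] at h9
  rw [h4 t, ← h9, one_mul]
  rfl

end Chev

end Cfsg.Agent.H967.FaBase
end

-- part: H967/FaChev
section
set_option linter.all false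
open scoped Cfsg.Agent.FastGrp

/-!
# Field automorphisms of the exceptional Chevalley groups (task 260 of helper545)
-/

set_option autoImplicit false

open scoped Pointwise

namespace Cfsg.Agent.H967.FaChev

open Cfsg Cfsg.Lie Cfsg.Agent.H967.CopMat Cfsg.Agent.H967.CopRow Cfsg.Agent.H967.CopChev Cfsg.Agent.H545.LT
  Cfsg.Agent.H967.FaBase

/-- The order of the field of fixed elements is a power of the characteristic. -/
theorem card_Fx_pow {F : Type*} [Field F] [Fintype F] (r : ℕ) [Fact r.Prime] [CharP F r] (σ : F ≃+* F) :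
    ∃ k, 1 ≤ k ∧ Nat.card ↥(Fx σ) = r ^ k := by
  have : CharP ↥(Fx σ) r := by
    have h := (Fx σ).subtype.charP (Fx σ).subtype.injective r
    exact h
  have : Fintype ↥(Fx σ) := Fintype.ofFinite _
  obtain ⟨n, hp, hn⟩ := FiniteField.card ↥(Fx σ) r
  exact ⟨n, n.pos, by rw [Nat.card_eq_fintype_card, hn]⟩

theorem pow_dvd_of {s q k : ℕ} (hs : s.Prime) (hq : 0 < q) (hk : (s - 1) ∣ k) : s ∣ q ∨ s ∣ q ^ k - 1 := by
  by_cases h : s ∣ q
  · exact Or.inl h
  right
  have hcop : q.Coprime s := (hs.coprime_iff_not_dvd.2 h).symm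
  have h1 := Nat.ModEq.pow_totient hcop
  rw [Nat.totient_prime hs] at h1
  obtain ⟨m, rfl⟩ := hk
  have h2 : q ^ ((s - 1) * m) ≡ 1 [MOD s] := by
    rw [pow_mul]
    simpa using h1.pow m
  exact (Nat.modEq_iff_dvd' (Nat.one_le_pow _ _ hq)).1 h2.symm

theorem prime_dvd_of {s q k a : ℕ} (hs : s.Prime) (hq : 0 < q) (hk : (s - 1) ∣ k) (ha : a ≠ 0) :
    s ∣ q ^ a * (q ^ k - 1) := by
  rcases pow_dvd_of hs hq hk with h | h
  · exact (dvd_pow h ha).mul_right _
  · exact h.mul_left _

theorem fixed_of_dvd {D : ChevalleyDatum} {F : Type*} [Field F] [Fintype F] (σ : F ≃+* F) {s : ℕ} (hs : s.Prime)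
    (h : s ∣ Nat.card ↥(D.group ↥(Fx σ))) :
    ∃ x : ↥(D.group F), orderOf x = s ∧ fieldAut (stab_group D F) σ x = x :=
  exists_fixed_of_dvd (stab_group D F) σ (map_group_le D (Fx σ).subtype) hs h

theorem fa_g2 {F : Type} [Field F] [Fintype F] (r : ℕ) [Fact r.Prime] [CharP F r] (h3 : 3 ≤ Fintype.card F) :
    FieldAct ↥(chevG2.group F) {p | p = 2 ∨ p = 3} {s | s = 2 ∨ s = 3 ∨ s = r} := by
  obtain ⟨n, hr, hF⟩ := FiniteField.card F r
  have hsimple : IsSimpleGroup ↥(chevG2.group F) := by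
    refine (S1055.result ?_).1
    classical
    by_contra hcon
    push Not at hcon
    have h4 : Fintype.card F ≤ 2 := by
      have h5 : (Finset.univ : Finset F) ⊆ {0, 1} := fun a _ => by
        by_cases h6 : a = 0
        · simp [h6]
        · simp [hcon a h6]
      calc Fintype.card F = (Finset.univ : Finset F).card := rfl
        _ ≤ ({0, 1} : Finset F).card := Finset.card_le_card h5
        _ ≤ 2 := Finset.card_le_two
    omega
  refine fieldAct_of (stab_group chevG2 F) (H254.isSolvable_out_of_sch (Schreier.Chev.sch_g2 F)) (c := 2) n.pos hF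
    (fun σ hσ => not_inner (by simp) σ hσ) ?_ ?_ ?_
  · rw [S2121.result r n hF (by rw [← hF]; exact h3)]
    split_ifs
    · exact dvd_rfl
    · exact dvd_mul_left _ _
  · intro s hs h
    exact Or.inl ((Nat.prime_dvd_prime_iff_eq hs Nat.prime_two).1 h)
  · intro σ _ _ s hs
    have : Fintype ↥(Fx σ) := Fintype.ofFinite _
    obtain ⟨k, hk, hq⟩ := card_Fx_pow r σ
    have hcard := S1059.result (F := ↥(Fx σ)) (q := r ^ k) (by rw [← Nat.card_eq_fintype_card, hq])
    have hq0 : 0 < r ^ k := pow_pos hr.pos _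
    have hp : s.Prime := by
      rcases hs with rfl | rfl | rfl
      · exact Nat.prime_two
      · exact Nat.prime_three
      · exact hr
    refine fixed_of_dvd σ hp ?_
    rw [hcard]
    rcases hs with rfl | rfl | rfl
    · exact two_dvd_of (by norm_num)
    · exact (prime_dvd_of Nat.prime_three hq0 (by norm_num) (by norm_num)).mul_right _
    · exact (((dvd_pow_self s (by omega)).trans (dvd_pow_self (s ^ k) (by norm_num))).mul_right _).mul_right _

theorem fa_f4 {F : Type} [Field F] [Fintype F] (r : ℕ) [Fact r.Prime] [CharP F r] :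
    FieldAct ↥(chevF4.group F) {p | p = 2 ∨ p = 3} {s | s = 2 ∨ s = 3 ∨ s = r} := by
  obtain ⟨n, hr, hF⟩ := FiniteField.card F r
  have hsimple : IsSimpleGroup ↥(chevF4.group F) := (S1054.result chevF4 (by simp)).1
  refine fieldAct_of (stab_group chevF4 F) (H254.isSolvable_out_of_sch (Schreier.Chev.sch_f4 F)) (c := 2) n.pos hF
    (fun σ hσ => not_inner (by simp) σ hσ) ?_ ?_ ?_
  · rw [S2122.result r n hF]
    exact mul_dvd_mul_right (Nat.gcd_dvd_left _ _) _
  · intro s hs h
    exact Or.inl ((Nat.prime_dvd_prime_iff_eq hs Nat.prime_two).1 h)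
  · intro σ _ _ s hs
    have : Fintype ↥(Fx σ) := Fintype.ofFinite _
    obtain ⟨k, hk, hq⟩ := card_Fx_pow r σ
    have hcard := S1062.result (F := ↥(Fx σ)) (q := r ^ k) (by rw [← Nat.card_eq_fintype_card, hq])
    have hq0 : 0 < r ^ k := pow_pos hr.pos _
    have hp : s.Prime := by
      rcases hs with rfl | rfl | rfl
      · exact Nat.prime_two
      · exact Nat.prime_three
      · exact hr
    refine fixed_of_dvd σ hp ?_
    rw [hcard]
    rcases hs with rfl | rfl | rfl
    · exact ((prime_dvd_of Nat.prime_two hq0 (by norm_num) (by norm_num)).mul_right _).mul_right _ |>.mul_right _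
    · exact ((prime_dvd_of Nat.prime_three hq0 (by norm_num) (by norm_num)).mul_right _).mul_right _ |>.mul_right _
    · exact ((((dvd_pow_self s (by omega)).trans (dvd_pow_self (s ^ k) (by norm_num))).mul_right _).mul_right _).mul_right _
        |>.mul_right _

/-- From `g * N = M` with `s ∣ M`, `s ∤ g`. -/
theorem dvd_of_mul {s g N M : ℕ} (hs : s.Prime) (h : g * N = M) (hM : s ∣ M) (hg : ¬ s ∣ g) : s ∣ N := by
  rw [← h] at hM
  exact (hs.dvd_mul.1 hM).resolve_left hg

theorem fa_e6 {F : Type} [Field F] [Fintype F] (r : ℕ) [Fact r.Prime] [CharP F r] :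
    FieldAct ↥(chevE6.group F) {p | p = 2 ∨ p = 3} {s | s = 2 ∨ s = 3 ∨ s = 5 ∨ s = r} := by
  obtain ⟨n, hr, hF⟩ := FiniteField.card F r
  have hsimple : IsSimpleGroup ↥(chevE6.group F) := (S1054.result chevE6 (by simp)).1
  refine fieldAct_of (stab_group chevE6 F) (H254.isSolvable_out_of_sch (Schreier.Chev.sch_e6 F))
    (c := 2 * Nat.gcd 3 (r ^ (n : ℕ) - 1)) n.pos hF
    (fun σ hσ => not_inner (by simp) σ hσ) ?_ ?_ ?_
  · rw [S2123.result r n hF]
  · intro s hs h
    rcases (hs.dvd_mul).1 h with h | h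
    · exact Or.inl ((Nat.prime_dvd_prime_iff_eq hs Nat.prime_two).1 h)
    · exact Or.inr ((Nat.prime_dvd_prime_iff_eq hs Nat.prime_three).1 (h.trans (Nat.gcd_dvd_left _ _)))
  · intro σ _ _ s hs
    have : Fintype ↥(Fx σ) := Fintype.ofFinite _
    obtain ⟨k, hk, hq⟩ := card_Fx_pow r σ
    have hcard := S1063.result (F := ↥(Fx σ)) (q := r ^ k) (by rw [← Nat.card_eq_fintype_card, hq])
    have hq0 : 0 < r ^ k := pow_pos hr.pos _
    set q := r ^ k with hqdef
    have hp : s.Prime := by
      rcases hs with rfl | rfl | rfl | rfl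
      · exact Nat.prime_two
      · exact Nat.prime_three
      · exact Nat.prime_five
      · exact hr
    refine fixed_of_dvd σ hp ?_
    by_cases h3 : 3 ∣ q - 1
    · -- one factor `3` is cancelled
      rw [Nat.gcd_eq_left h3] at hcard
      have h5 : ∀ k, 3 ∣ q ^ k - 1 := fun k => by
        have := Nat.sub_dvd_pow_sub_pow q 1 k
        rw [one_pow] at this
        exact h3.trans this
      obtain ⟨a, ha⟩ := h5 5
      rw [ha] at hcard
      have h6 : Nat.card ↥(chevE6.group ↥(Fx σ)) =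
          q ^ 36 * (q ^ 2 - 1) * a * (q ^ 6 - 1) * (q ^ 8 - 1) * (q ^ 9 - 1) * (q ^ 12 - 1) := by
        refine Nat.eq_of_mul_eq_mul_left (show 0 < 3 by norm_num) ?_
        rw [hcard]
        ring
      have h7 : Nat.card ↥(chevE6.group ↥(Fx σ)) =
          (q ^ 36 * (q ^ 12 - 1)) * ((q ^ 2 - 1) * a * (q ^ 6 - 1) * (q ^ 8 - 1) * (q ^ 9 - 1)) := by
        rw [h6]; ring
      rw [h7]
      rcases hs with rfl | rfl | rfl | rfl
      · exact (prime_dvd_of Nat.prime_two hq0 (by norm_num) (by norm_num)).mul_right _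
      · exact (prime_dvd_of Nat.prime_three hq0 (by norm_num) (by norm_num)).mul_right _
      · exact (prime_dvd_of Nat.prime_five hq0 (by norm_num) (by norm_num)).mul_right _
      · exact (((dvd_pow_self s (by omega)).trans (dvd_pow_self (s ^ k) (by norm_num))).mul_right _).mul_right _
    · have h4 : Nat.gcd 3 (q - 1) = 1 := by
        rcases (Nat.dvd_prime Nat.prime_three).1 (Nat.gcd_dvd_left 3 (q - 1)) with h | h
        · exact h
        · exact absurd (h ▸ Nat.gcd_dvd_right 3 (q - 1)) h3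
      rw [h4, one_mul] at hcard
      have h7 : Nat.card ↥(chevE6.group ↥(Fx σ)) =
          (q ^ 36 * (q ^ 12 - 1)) * ((q ^ 2 - 1) * (q ^ 5 - 1) * (q ^ 6 - 1) * (q ^ 8 - 1) * (q ^ 9 - 1)) := by
        rw [hcard]; ring
      rw [h7]
      rcases hs with rfl | rfl | rfl | rfl
      · exact (prime_dvd_of Nat.prime_two hq0 (by norm_num) (by norm_num)).mul_right _
      · exact (prime_dvd_of Nat.prime_three hq0 (by norm_num) (by norm_num)).mul_right _
      · exact (prime_dvd_of Nat.prime_five hq0 (by norm_num) (by norm_num)).mul_right _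
      · exact (((dvd_pow_self s (by omega)).trans (dvd_pow_self (s ^ k) (by norm_num))).mul_right _).mul_right _

theorem fa_e7 {F : Type} [Field F] [Fintype F] (r : ℕ) [Fact r.Prime] [CharP F r] :
    FieldAct ↥(chevE7.group F) {p | p = 2 ∨ p = 3} {s | s = 2 ∨ s = 3 ∨ s = 5 ∨ s = 7 ∨ s = r} := by
  obtain ⟨n, hr, hF⟩ := FiniteField.card F r
  have hsimple : IsSimpleGroup ↥(chevE7.group F) := (S1054.result chevE7 (by simp)).1
  refine fieldAct_of (stab_group chevE7 F) (H254.isSolvable_out_of_sch (Schreier.Chev.sch_e7 F))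
    (c := Nat.gcd 2 (r ^ (n : ℕ) - 1)) n.pos hF
    (fun σ hσ => not_inner (by simp) σ hσ) ?_ ?_ ?_
  · rw [S2124.result r n hF]
  · intro s hs h
    exact Or.inl ((Nat.prime_dvd_prime_iff_eq hs Nat.prime_two).1 (h.trans (Nat.gcd_dvd_left _ _)))
  · intro σ _ _ s hs
    have : Fintype ↥(Fx σ) := Fintype.ofFinite _
    obtain ⟨k, hk, hq⟩ := card_Fx_pow r σ
    have hcard := S1064.result (F := ↥(Fx σ)) (q := r ^ k) (by rw [← Nat.card_eq_fintype_card, hq])
    have hq0 : 0 < r ^ k := pow_pos hr.pos _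
    set q := r ^ k with hqdef
    have hp : s.Prime := by
      rcases hs with rfl | rfl | rfl | rfl | rfl
      · exact Nat.prime_two
      · exact Nat.prime_three
      · exact Nat.prime_five
      · norm_num
      · exact hr
    refine fixed_of_dvd σ hp ?_
    by_cases h2 : 2 ∣ q - 1
    · rw [Nat.gcd_eq_left h2] at hcard
      have h5 : ∀ k, 2 ∣ q ^ k - 1 := fun k => by
        have := Nat.sub_dvd_pow_sub_pow q 1 k
        rw [one_pow] at this
        exact h2.trans this
      obtain ⟨a, ha⟩ := h5 2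
      rw [ha] at hcard
      have h6 : Nat.card ↥(chevE7.group ↥(Fx σ)) =
          (q ^ 63 * (q ^ 12 - 1)) * (a * (q ^ 6 - 1) * (q ^ 8 - 1) * (q ^ 10 - 1) * (q ^ 14 - 1) * (q ^ 18 - 1)) := by
        refine Nat.eq_of_mul_eq_mul_left (show 0 < 2 by norm_num) ?_
        rw [hcard]
        ring
      rw [h6]
      rcases hs with rfl | rfl | rfl | rfl | rfl
      · exact (prime_dvd_of Nat.prime_two hq0 (by norm_num) (by norm_num)).mul_right _
      · exact (prime_dvd_of Nat.prime_three hq0 (by norm_num) (by norm_num)).mul_right _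
      · exact (prime_dvd_of Nat.prime_five hq0 (by norm_num) (by norm_num)).mul_right _
      · exact (prime_dvd_of (by norm_num) hq0 (by norm_num) (by norm_num)).mul_right _
      · exact (((dvd_pow_self s (by omega)).trans (dvd_pow_self (s ^ k) (by norm_num))).mul_right _).mul_right _
    · have h4 : Nat.gcd 2 (q - 1) = 1 := by
        rcases (Nat.dvd_prime Nat.prime_two).1 (Nat.gcd_dvd_left 2 (q - 1)) with h | h
        · exact h
        · exact absurd (h ▸ Nat.gcd_dvd_right 2 (q - 1)) h2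
      rw [h4, one_mul] at hcard
      have h7 : Nat.card ↥(chevE7.group ↥(Fx σ)) =
          (q ^ 63 * (q ^ 12 - 1)) * ((q ^ 2 - 1) * (q ^ 6 - 1) * (q ^ 8 - 1) * (q ^ 10 - 1) * (q ^ 14 - 1) * (q ^ 18 - 1)) := by
        rw [hcard]; ring
      rw [h7]
      rcases hs with rfl | rfl | rfl | rfl | rfl
      · exact (prime_dvd_of Nat.prime_two hq0 (by norm_num) (by norm_num)).mul_right _
      · exact (prime_dvd_of Nat.prime_three hq0 (by norm_num) (by norm_num)).mul_right _
      · exact (prime_dvd_of Nat.prime_five hq0 (by norm_num) (by norm_num)).mul_right _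
      · exact (prime_dvd_of (by norm_num) hq0 (by norm_num) (by norm_num)).mul_right _
      · exact (((dvd_pow_self s (by omega)).trans (dvd_pow_self (s ^ k) (by norm_num))).mul_right _).mul_right _

theorem fa_e8 {F : Type} [Field F] [Fintype F] (r : ℕ) [Fact r.Prime] [CharP F r] :
    FieldAct ↥(chevE8.group F) {p | p = 2 ∨ p = 3} {s | s = 2 ∨ s = 3 ∨ s = 5 ∨ s = 7 ∨ s = r} := by
  obtain ⟨n, hr, hF⟩ := FiniteField.card F r
  have hsimple : IsSimpleGroup ↥(chevE8.group F) := (S1054.result chevE8 (by simp)).1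
  refine fieldAct_of (stab_group chevE8 F) (H254.isSolvable_out_of_sch (Schreier.Chev.sch_e8 F)) (c := 1) n.pos hF
    (fun σ hσ => not_inner (by simp) σ hσ) ?_ ?_ ?_
  · rw [S2125.result r n hF, one_mul]
  · intro s hs h
    exact absurd (Nat.dvd_one.1 h) hs.one_lt.ne'
  · intro σ _ _ s hs
    have : Fintype ↥(Fx σ) := Fintype.ofFinite _
    obtain ⟨k, hk, hq⟩ := card_Fx_pow r σ
    have hcard := S1065.result (F := ↥(Fx σ)) (q := r ^ k) (by rw [← Nat.card_eq_fintype_card, hq])
    have hq0 : 0 < r ^ k := pow_pos hr.pos _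
    set q := r ^ k with hqdef
    have hp : s.Prime := by
      rcases hs with rfl | rfl | rfl | rfl | rfl
      · exact Nat.prime_two
      · exact Nat.prime_three
      · exact Nat.prime_five
      · norm_num
      · exact hr
    refine fixed_of_dvd σ hp ?_
    have h7 : Nat.card ↥(chevE8.group ↥(Fx σ)) =
        (q ^ 120 * (q ^ 12 - 1)) * ((q ^ 2 - 1) * (q ^ 8 - 1) * (q ^ 14 - 1) * (q ^ 18 - 1) * (q ^ 20 - 1) *
          (q ^ 24 - 1) * (q ^ 30 - 1)) := by
      rw [hcard]; ring
    rw [h7]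
    rcases hs with rfl | rfl | rfl | rfl | rfl
    · exact (prime_dvd_of Nat.prime_two hq0 (by norm_num) (by norm_num)).mul_right _
    · exact (prime_dvd_of Nat.prime_three hq0 (by norm_num) (by norm_num)).mul_right _
    · exact (prime_dvd_of Nat.prime_five hq0 (by norm_num) (by norm_num)).mul_right _
    · exact (prime_dvd_of (by norm_num) hq0 (by norm_num) (by norm_num)).mul_right _
    · exact (((dvd_pow_self s (by omega)).trans (dvd_pow_self (s ^ k) (by norm_num))).mul_right _).mul_right _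

end Cfsg.Agent.H967.FaChev
end
end
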