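import Mathlib
import Cfsg.Agent.H967.FaChev
import Cfsg.Agent.H967.CopD4_m3
import Cfsg.Agent.H69.OutTwD4
import Cfsg.Agent.H166.OutTwESix
import Cfsg.Agent.S1066
import Cfsg.Agent.S1067
import Cfsg.Agent.S1068
import Cfsg.Agent.S1069
import Cfsg.Agent.S1070
import Cfsg.Agent.S1071
import Cfsg.Agent.Prune
set_option linter.all false
prune_inst 0x7f00000000000000000000000000000000000000000000000000000000000000000000000000000000000000000000000000000000000000000000000000000000000000000000000000000000000000003fffffffffffffffffffffffffffbeffbdffffffff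
open scoped Cfsg.Agent.FastGrp

/-!
# Field automorphisms of the twisted groups (task 261 of helper545)
-/

set_option autoImplicit false

open scoped Pointwise

namespace Cfsg.Agent.H967.FaTw

open Cfsg Cfsg.Lie Cfsg.Agent.H967.CopMat Cfsg.Agent.H967.CopRow Cfsg.Agent.H967.CopChev Cfsg.Agent.H967.CopSz
  Cfsg.Agent.H967.CopTw Cfsg.Agent.H967.CopFix Cfsg.Agent.H967.CopD4 Cfsg.Agent.H545.LT
  Cfsg.Agent.H967.FaBase Cfsg.Agent.H967.FaChev

/-- If every automorphism is inner times a field automorphism and `|Out| = n`, field automorphisms are not inner. -/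
theorem not_inner_of_conj_field {ι : Type*} [Fintype ι] [DecidableEq ι] {F : Type*} [Field F] {G : Subgroup (GL ι F)}
    (hG : Stab G) [Fintype F] {p n : ℕ} [Fact p.Prime] [CharP F p] (hn : 1 ≤ n) (hF : Fintype.card F = p ^ n)
    (hOut : Nat.card (Cfsg.Out ↥G) = n)
    (h : ∀ ψ : MulAut ↥G, ∃ (g : ↥G) (σ : F ≃+* F), ψ = MulAut.conj g * fieldAut hG σ) (σ : F ≃+* F) (h1 : σ ≠ 1) :
    fieldAut hG σ ∉ Cfsg.Inn ↥G := by
  let f : (F ≃+* F) →* Cfsg.Out ↥G := (QuotientGroup.mk' (Cfsg.Inn ↥G)).comp (fieldAut hG)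
  have hs : Function.Surjective f := by
    intro x
    obtain ⟨ψ, rfl⟩ := QuotientGroup.mk'_surjective _ x
    obtain ⟨g, σ, rfl⟩ := h ψ
    refine ⟨σ, ?_⟩
    have h1 : QuotientGroup.mk' (Cfsg.Inn ↥G) (MulAut.conj g) = 1 :=
      (QuotientGroup.eq_one_iff _).2 ⟨g, rfl⟩
    rw [map_mul, h1, one_mul]
    rfl
  have hfin : Finite (F ≃+* F) := Finite.of_injective (fun f : F ≃+* F => (f : F → F)) DFunLike.coe_injective
  have hc : Nat.card (F ≃+* F) = n := Cfsg.Agent.Lib.FieldAutCard.card_ringAut hn hF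
  have hfO : Finite (Cfsg.Out ↥G) := Finite.of_surjective f hs
  have hinj : Function.Injective f := by
    have := (Nat.bijective_iff_surjective_and_card f).2 ⟨hs, by rw [hc, hOut]⟩
    exact this.1
  intro hin
  apply h1
  apply hinj
  rw [map_one]
  exact (QuotientGroup.eq_one_iff _).2 hin

/-- A cyclic `Out`. -/
theorem solvable_of_conj_field {ι : Type*} [Fintype ι] [DecidableEq ι] {F : Type*} [Field F] {G : Subgroup (GL ι F)}
    (hG : Stab G) [Fintype F]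
    (h : ∀ ψ : MulAut ↥G, ∃ (g : ↥G) (σ : F ≃+* F), ψ = MulAut.conj g * fieldAut hG σ) :
    Group.IsSolvable (Cfsg.Out ↥G) := by
  obtain ⟨p, n, hp, hc, hn, hF⟩ := exists_char F
  have : Fact p.Prime := ⟨hp⟩
  let f : (F ≃+* F) →* Cfsg.Out ↥G := (QuotientGroup.mk' (Cfsg.Inn ↥G)).comp (fieldAut hG)
  have hs : Function.Surjective f := by
    intro x
    obtain ⟨ψ, rfl⟩ := QuotientGroup.mk'_surjective _ x
    obtain ⟨g, σ, rfl⟩ := h ψ
    refine ⟨σ, ?_⟩
    have h1 : QuotientGroup.mk' (Cfsg.Inn ↥G) (MulAut.conj g) = 1 :=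
      (QuotientGroup.eq_one_iff _).2 ⟨g, rfl⟩
    rw [map_mul, h1, one_mul]
    rfl
  have hfin : Finite (F ≃+* F) := Finite.of_injective (fun f : F ≃+* F => (f : F → F)) DFunLike.coe_injective
  have hc : Nat.card (F ≃+* F) = n := Cfsg.Agent.Lib.FieldAutCard.card_ringAut hn hF
  obtain ⟨τ, hτ⟩ := exists_ringAut p n hF
  have hcyc : IsCyclic (F ≃+* F) := isCyclic_of_orderOf_eq_card τ (by rw [hτ, hc])
  have h1 : IsCyclic (Cfsg.Out ↥G) := isCyclic_of_surjective f hs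
  exact Group.isSolvable_of_comm fun a b => mul_comm' a b

/-! ### Suzuki groups -/

theorem fa_sz {F : Type} [Field F] [Fintype F] {m : ℕ} (hm : 1 ≤ m) (hF : Fintype.card F = 2 ^ (2 * m + 1)) :
    FieldAct ↥(Cfsg.Lie.Sz F (2 ^ (m + 1))) {p | p = 2} {s | s = 2} := by
  have := two_prime
  have hc : CharP F 2 := charP_of_card Nat.prime_two hF
  have h : ∀ ψ : MulAut ↥(Cfsg.Lie.Sz F (2 ^ (m + 1))), ∃ (g : ↥(Cfsg.Lie.Sz F (2 ^ (m + 1)))) (σ : F ≃+* F),
      ψ = MulAut.conj g * fieldAut (stab_sz hF) σ := fun ψ => by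
    obtain ⟨g, σ, h⟩ := Cfsg.Agent.H70.SzAutThm.exists_conj_field hm hF ψ
    exact ⟨g, σ, h⟩
  refine fieldAct_of (stab_sz hF) (solvable_of_conj_field (stab_sz hF) h) (p := 2) (c := 1) (by omega) hF
    (not_inner_of_conj_field (stab_sz hF) (by omega) hF (S2126.result hm hF) h) ?_ ?_ ?_
  · rw [S2126.result hm hF, one_mul]
  · intro s hs h
    exact absurd (Nat.dvd_one.1 h) hs.one_lt.ne'
  · intro σ _ _ s hs
    have hs2 : s = 2 := hs
    subst hs2
    have : Fintype ↥(Fx σ) := Fintype.ofFinite _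
    have hE : 2 ^ (2 * m + 1) = Nat.card ↥(Fx σ) ^ orderOf σ := by
      rw [← card_Fx, Nat.card_eq_fintype_card, hF]
    obtain ⟨m₀, j, h1, h2⟩ := exists_odd_exp Nat.prime_two hE
    have h3 : m + 1 = m₀ + 1 + j * (2 * m₀ + 1) := by rw [h2]; ring
    refine exists_fixed_of_dvd (stab_sz hF) σ (G₀ := Cfsg.Lie.Sz ↥(Fx σ) (2 ^ (m + 1))) (map_sz (Fx σ).subtype _)
      Nat.prime_two ?_
    rw [sz_congr (E := ↥(Fx σ)) (e := 2 ^ (m + 1)) (pow_eq h1 h3)]
    have h4 : Fintype.card ↥(Fx σ) = 2 ^ (2 * m₀ + 1) := by rw [← Nat.card_eq_fintype_card, h1]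
    have h5 := (Cfsg.Agent.LieRecognition.SzMatrix.good h4).card_unip
    refine dvd_trans ?_ (Subgroup.card_subgroup_dvd_card (Cfsg.Agent.LieRecognition.SzMatrix.good h4).unip)
    rw [h5, h1]
    exact (dvd_pow_self 2 (by omega)).trans (dvd_pow_self _ (by norm_num))

/-! ### Ree groups -/

theorem fa_ree {F : Type} [Field F] [Fintype F] {m : ℕ} (hm : 1 ≤ m) (hF : Fintype.card F = 3 ^ (2 * m + 1)) :
    FieldAct ↥(twistedG2 F (3 ^ m)) {p | p = 2 ∨ p = 3} {s | s = 2 ∨ s = 3} := by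
  have := three_prime
  have hc : CharP F 3 := charP_of_card Nat.prime_three hF
  have h : ∀ ψ : MulAut ↥(twistedG2 F (3 ^ m)), ∃ (g : ↥(twistedG2 F (3 ^ m))) (σ : F ≃+* F),
      ψ = MulAut.conj g * fieldAut (stab_g2 _) σ := fun ψ => by
    obtain ⟨g, σ, h⟩ := Cfsg.Agent.H71.FldAut.ree_aut hm hF ψ
    exact ⟨g, σ, h⟩
  refine fieldAct_of (stab_g2 _) (solvable_of_conj_field (stab_g2 _) h) (p := 3) (c := 1) (by omega) hF
    (not_inner_of_conj_field (stab_g2 _) (by omega) hF (S2127.result hm hF) h) ?_ ?_ ?_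
  · rw [S2127.result hm hF, one_mul]
  · intro s hs h
    exact absurd (Nat.dvd_one.1 h) hs.one_lt.ne'
  · intro σ _ _ s hs
    have : Fintype ↥(Fx σ) := Fintype.ofFinite _
    have hE : 3 ^ (2 * m + 1) = Nat.card ↥(Fx σ) ^ orderOf σ := by
      rw [← card_Fx, Nat.card_eq_fintype_card, hF]
    obtain ⟨m₀, j, h1, h2⟩ := exists_odd_exp Nat.prime_three hE
    have hp : s.Prime := by
      rcases hs with rfl | rfl
      · exact Nat.prime_two
      · exact Nat.prime_three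
    refine exists_fixed_of_dvd (stab_g2 _) σ (G₀ := twistedG2 ↥(Fx σ) (3 ^ m)) (words_g2 (Fx σ).subtype _) hp ?_
    rw [twistedG2_congr (E := ↥(Fx σ)) (e := 3 ^ m) (pow_eq h1 h2)]
    have h4 : Fintype.card ↥(Fx σ) = 3 ^ (2 * m₀ + 1) := by rw [← Nat.card_eq_fintype_card, h1]
    rw [S1069.result h4]
    rcases hs with rfl | rfl
    · have h5 : Odd (3 ^ (2 * m₀ + 1)) := Odd.pow (by decide)
      have h6 : Even (3 ^ (2 * m₀ + 1) - 1) := Nat.Odd.sub_odd h5 odd_one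
      exact (h6.two_dvd.mul_left _).mul_right _
    · exact (((dvd_pow_self 3 (by omega)).trans (dvd_pow_self _ (by norm_num))).mul_right _).mul_right _

/-! ### `²F₄(q)` -/

theorem fa_tf4 {F : Type} [Field F] [Fintype F] {m : ℕ} (hm : 1 ≤ m) (hF : Fintype.card F = 2 ^ (2 * m + 1)) :
    FieldAct ↥(twistedF4 F (2 ^ m)) {p | p = 2 ∨ p = 3} {s | s = 2 ∨ s = 3} := by
  have := two_prime
  have hc : CharP F 2 := charP_of_card Nat.prime_two hF
  have h : ∀ ψ : MulAut ↥(twistedF4 F (2 ^ m)), ∃ (g : ↥(twistedF4 F (2 ^ m))) (σ : F ≃+* F),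
      ψ = MulAut.conj g * fieldAut (stab_f4 _) σ := fun ψ => by
    obtain ⟨g, σ, h⟩ := Cfsg.Agent.H71.FldAut.twF4_aut hm hF ψ
    exact ⟨g, σ, h⟩
  refine fieldAct_of (stab_f4 _) (solvable_of_conj_field (stab_f4 _) h) (p := 2) (c := 1) (by omega) hF
    (not_inner_of_conj_field (stab_f4 _) (by omega) hF (S2128.result hm hF) h) ?_ ?_ ?_
  · rw [S2128.result hm hF, one_mul]
  · intro s hs h
    exact absurd (Nat.dvd_one.1 h) hs.one_lt.ne'
  · intro σ _ _ s hs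
    have : Fintype ↥(Fx σ) := Fintype.ofFinite _
    have hE : 2 ^ (2 * m + 1) = Nat.card ↥(Fx σ) ^ orderOf σ := by
      rw [← card_Fx, Nat.card_eq_fintype_card, hF]
    obtain ⟨m₀, j, h1, h2⟩ := exists_odd_exp Nat.prime_two hE
    have hp : s.Prime := by
      rcases hs with rfl | rfl
      · exact Nat.prime_two
      · exact Nat.prime_three
    refine exists_fixed_of_dvd (stab_f4 _) σ (G₀ := twistedF4 ↥(Fx σ) (2 ^ m)) (words_f4 (Fx σ).subtype _) hp ?_
    rw [twistedF4_congr (E := ↥(Fx σ)) (e := 2 ^ m) (pow_eq h1 h2)]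
    have h4 : Fintype.card ↥(Fx σ) = 2 ^ (2 * m₀ + 1) := by rw [← Nat.card_eq_fintype_card, h1]
    rw [S1068.result h4]
    set q := 2 ^ (2 * m₀ + 1) with hqdef
    rcases hs with rfl | rfl
    · exact ((((dvd_pow_self 2 (by omega)).trans (dvd_pow_self q (by norm_num))).mul_right _).mul_right _).mul_right _
        |>.mul_right _
    · have h5 : 3 ∣ q ^ 4 - 1 := by
        rcases pow_dvd_of Nat.prime_three (q := q) (k := 4) (by positivity) (by norm_num) with h | h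
        · have h6 := Nat.prime_three.dvd_of_dvd_pow h
          norm_num at h6
        · exact h
      exact (h5.mul_left _).mul_right _

/-! ### `³D₄(q)` -/

theorem not_inner_d4 {K : Type*} [Field K] [Fintype K] {q : ℕ} (hq : IsPrimePow q) (hK : Fintype.card K = q ^ 3)
    (σ : K ≃+* K) (h1 : σ ≠ 1) : fieldAut (stab_d4 q) σ ∉ Cfsg.Inn ↥(twistedD4 K q) := by
  rintro ⟨g, hg⟩
  obtain ⟨p, hp⟩ := CharP.exists K
  have : Fact p.Prime := ⟨CharP.char_is_prime K p⟩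
  obtain ⟨φ, hφ⟩ := Cfsg.Agent.ChevalleyStructure.D4Fixed.exists_frob hq hK
  let cs : CoxeterSystem CoxeterMatrix.G₂ CoxeterMatrix.G₂.Group := CoxeterMatrix.G₂.toCoxeterSystem
  have hfin : Finite CoxeterMatrix.G₂.Group := Cfsg.Agent.KFacts.TwDFour.Out.finiteW cs
  have R := Cfsg.Agent.Nodes.RGDTwD4.rgd cs hK hφ p
  have hG1 := Cfsg.Agent.Nodes.RGDTwD4.G1_eq_top cs hK hφ
  have h2 := Cfsg.Agent.H69.OutTwD4.dtau_st hφ hK σ cs p
  have h3 : Cfsg.Agent.H69.OutTwD4.st q σ = MulAut.conj g := hg.symm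
  rw [h3] at h2
  have h4 := Cfsg.Agent.H69.OutCount.mem_T_of_diag R hG1 h2.diag
  exact h1 (h2.unique hφ hK (Cfsg.Agent.KFacts.TwDFour.Out.dtau_conj hφ hK cs p h4))

/-- The exponents of a subfield of index prime to `3`. -/
theorem exists_exp_three {p a n N : ℕ} (hp : p.Prime) (ha : a ≠ 0) (hn3 : ¬ 3 ∣ n) (h : p ^ (a * 3) = N ^ n) :
    ∃ a₀, a₀ ≠ 0 ∧ a = a₀ * n ∧ N = (p ^ a₀) ^ 3 := by
  have hn0 : n ≠ 0 := by rintro h0; rw [h0] at hn3; exact hn3 (dvd_zero 3)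
  obtain ⟨k, hk, hkn⟩ := exists_log hp hn0 h
  have hk3 : 3 ∣ k := by
    have h1 : 3 ∣ k * n := ⟨a, by rw [hkn]; ring⟩
    exact ((Nat.prime_three.dvd_mul).1 h1).resolve_right hn3
  obtain ⟨a₀, rfl⟩ := hk3
  have h1 : a = a₀ * n := by
    have : 3 * a = 3 * (a₀ * n) := by rw [mul_comm 3 a, ← hkn]; ring
    omega
  refine ⟨a₀, ?_, h1, ?_⟩
  · rintro rfl
    rw [zero_mul] at h1
    exact ha h1
  · rw [hk, ← pow_mul]; congr 1; ring

/-- The groups `³D₄` over a subfield. -/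
theorem card_dvd_d4 {E : Type*} [Field E] [Fintype E] {p a₀ n : ℕ}
    (hn3 : ¬ 3 ∣ n) (hk : Nat.card E = (p ^ a₀) ^ 3) :
    Nat.card ↥(twistedD4 E (p ^ a₀)) ∣ Nat.card ↥(twistedD4 E (p ^ (a₀ * n))) := by
  have hk' : Nat.card E = p ^ (3 * a₀) := by rw [hk, ← pow_mul]; congr 1; ring
  have hn3' : n % 3 = 1 ∨ n % 3 = 2 := by omega
  rcases hn3' with h3 | h3
  · have h4 : a₀ * n = a₀ + (n / 3) * (3 * a₀) := by
      conv_lhs => rw [← Nat.div_add_mod n 3, h3]
      ring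
    rw [← twistedD4_congr (E := E) (e := p ^ (a₀ * n)) (pow_eq hk' h4)]
  · have h4 : a₀ * n = 2 * a₀ + (n / 3) * (3 * a₀) := by
      conv_lhs => rw [← Nat.div_add_mod n 3, h3]
      ring
    have h5 : ∀ t : E, t ^ p ^ (a₀ * n) = t ^ ((p ^ a₀) ^ 2) := fun t => by
      rw [pow_eq hk' h4 t, ← pow_mul, mul_comm a₀ 2]
    have h7 : ∀ t : E, t ^ (p ^ a₀) ^ 4 = t ^ (p ^ a₀) := fun t => by
      rw [← pow_mul]
      exact pow_eq hk' (by ring : a₀ * 4 = a₀ + 1 * (3 * a₀)) t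
    have h8 : ∀ t : E, t ^ ((p ^ (a₀ * n)) ^ 2) = t ^ (p ^ a₀) := fun t => by
      rw [pow_two (p ^ (a₀ * n)), pow_mul, h5, h5, ← pow_mul, ← pow_add]
      exact h7 t
    have h9 : ∀ t : E, t ^ (p ^ a₀) = t → t ^ (p ^ (a₀ * n)) = t := fun t ht => by
      rw [h5, pow_two, pow_mul, ht, ht]
    have hle := le_comap h5 h8 h9
    refine dvd_trans (dvd_of_eq ?_) (Subgroup.card_dvd_of_le hle)
    exact Nat.card_congr ((twistedD4 E (p ^ a₀)).equivMapOfInjective _ (MulAut.conj (symm.P E)).injective).toEquiv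

theorem fa_3d4 {K : Type} [Field K] [Fintype K] (r : ℕ) [Fact r.Prime] [CharP K r] {q : ℕ} (hq : IsPrimePow q)
    (hK : Fintype.card K = q ^ 3) :
    FieldAct ↥(twistedD4 K q) {p | p = 2 ∨ p = 3} {s | s = 2 ∨ s = 3 ∨ s = r} := by
  obtain ⟨p, a, hp, ha, hqa⟩ := (isPrimePow_nat_iff _).1 hq
  have hK' : Fintype.card K = p ^ (3 * a) := by rw [hK, ← hqa, ← pow_mul, mul_comm]
  have hpr : p = r := CharP.eq K (charP_of_card hp hK') ‹CharP K r›
  subst hpr
  subst hqa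
  refine fieldAct_of (stab_d4 _) (H254.isSolvable_out_of_sch (Cfsg.Agent.Schreier.TwDFour.sch hq hK)) (c := 1)
    (by omega) hK' (not_inner_d4 hq hK) ?_ ?_ ?_
  · rw [S2129.result p a hK' ha, one_mul]
  · intro s hs h
    exact absurd (Nat.dvd_one.1 h) hs.one_lt.ne'
  · intro σ hσ hσ' s hs
    have : Fintype ↥(Fx σ) := Fintype.ofFinite _
    have hn3 : ¬ 3 ∣ orderOf σ := fun h =>
      hσ' (Or.inr ((Nat.prime_dvd_prime_iff_eq Nat.prime_three hσ).1 h).symm)
    have hE : p ^ (a * 3) = Nat.card ↥(Fx σ) ^ orderOf σ := by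
      rw [← card_Fx, Nat.card_eq_fintype_card, hK', mul_comm]
    obtain ⟨a₀, h0, h1, h2⟩ := exists_exp_three hp (by omega) hn3 hE
    have hp' : s.Prime := by
      rcases hs with rfl | rfl | rfl
      · exact Nat.prime_two
      · exact Nat.prime_three
      · exact hp
    refine exists_fixed_of_dvd (stab_d4 _) σ (G₀ := twistedD4 ↥(Fx σ) (p ^ a)) (words_d4 (Fx σ).subtype _) hp' ?_
    rw [h1]
    refine dvd_trans ?_ (card_dvd_d4 hn3 h2)
    have hq0 : 0 < p ^ a₀ := pow_pos hp.pos _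
    rw [S1067.result (K := ↥(Fx σ)) (hp.isPrimePow.pow h0) (by rw [← Nat.card_eq_fintype_card, h2])]
    rcases hs with rfl | rfl | rfl
    · exact ((prime_dvd_of Nat.prime_two hq0 (by norm_num) (by norm_num)).mul_right _).mul_right _
    · exact ((prime_dvd_of Nat.prime_three hq0 (by norm_num) (by norm_num)).mul_right _).mul_right _
    · exact ((((dvd_pow_self s h0)).trans (dvd_pow_self (s ^ a₀) (by norm_num))).mul_right _).mul_right _
        |>.mul_right _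

/-! ### `²E₆(q)` -/

theorem not_inner_e6 {K : Type*} [Field K] [Fintype K] {q : ℕ} (hq : IsPrimePow q) (hK : Fintype.card K = q ^ 2)
    (σ : K ≃+* K) (h1 : σ ≠ 1) : fieldAut (stab_e6 q) σ ∉ Cfsg.Inn ↥(twistedE6 K q) := by
  rintro ⟨g, hg⟩
  obtain ⟨p, hp⟩ := CharP.exists K
  have : Fact p.Prime := ⟨CharP.char_is_prime K p⟩
  obtain ⟨φ, hφ, hqq⟩ := Cfsg.Agent.ChevalleyStructure.TwE6Basic.exists_frob hq hK
  have hW : Finite CoxeterMatrix.F₄.Group :=
    Cfsg.Agent.Nodes.RGDFold.finite_W (hp := Cfsg.Agent.Nodes.RGDTwE6.hp) CoxeterMatrix.F₄.toCoxeterSystem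
      Cfsg.Agent.Nodes.RGDTwE6.isCartan Cfsg.Agent.Nodes.RGDTwE6.foldData
  let cs : CoxeterSystem CoxeterMatrix.F₄ CoxeterMatrix.F₄.Group := CoxeterMatrix.F₄.toCoxeterSystem
  have R := Cfsg.Agent.Nodes.RGDTwE6.rgd cs hφ hqq p
  have hG1 := Cfsg.Agent.KFacts.TwESix.OutTwo.G1_top cs hφ hqq
  have h0 : Cfsg.Agent.KFacts.TwESix.Out.FTau hφ hqq (Cfsg.Agent.CpAut.RgdTwE6.st q σ) σ := by
    have S := Cfsg.Agent.CpAut.RgdTwE6.ntau_st hφ hqq σ cs p
    exact ⟨S.diag, fun i t ht => congrArg Subtype.val (S.char i t ht)⟩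
  have h3 : Cfsg.Agent.CpAut.RgdTwE6.st q σ = MulAut.conj g := hg.symm
  rw [h3] at h0
  have h4 := Cfsg.Agent.H69.OutCount.mem_T_of_diag R hG1 h0.diag
  exact h1 (h0.unique hφ hqq (Cfsg.Agent.KFacts.TwESix.OutTwo.ftau_conj hφ hqq cs p h4))

/-- The exponents of a subfield of odd index. -/
theorem exists_exp_two {p a n N : ℕ} (hp : p.Prime) (ha : a ≠ 0) (hno : Odd n) (h : p ^ (a * 2) = N ^ n) :
    ∃ a₀ j, a₀ ≠ 0 ∧ a = a₀ * n ∧ N = (p ^ a₀) ^ 2 ∧ a = a₀ + j * (2 * a₀) := by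
  obtain ⟨k, hk, hkn⟩ := exists_log hp (by rintro h0; rw [h0] at hno; exact absurd hno (by decide)) h
  have hke : Even k := by
    by_contra hko
    rw [Nat.not_even_iff_odd] at hko
    have := hko.mul hno
    rw [hkn] at this
    exact absurd this (by rw [Nat.not_odd_iff_even]; exact ⟨a, by ring⟩)
  obtain ⟨a₀, ha₀⟩ := hke
  obtain ⟨j, hj⟩ := hno
  have h1 : a = a₀ * n := by
    have : 2 * a = 2 * (a₀ * n) := by rw [mul_comm 2 a, ← hkn, ha₀]; ring
    omega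
  refine ⟨a₀, j, ?_, h1, ?_, ?_⟩
  · rintro rfl
    rw [zero_mul] at h1
    exact ha h1
  · rw [hk, ha₀, ← pow_mul]; congr 1; ring
  · rw [h1, hj]; ring

theorem fa_2e6 {K : Type} [Field K] [Fintype K] (r : ℕ) [Fact r.Prime] [CharP K r] {q : ℕ} (hq : IsPrimePow q)
    (hK : Fintype.card K = q ^ 2) :
    FieldAct ↥(twistedE6 K q) {p | p = 2 ∨ p = 3} {s | s = 2 ∨ s = 3 ∨ s = 5 ∨ s = r} := by
  obtain ⟨p, a, hp, ha, hqa⟩ := (isPrimePow_nat_iff _).1 hq
  have hK' : Fintype.card K = p ^ (2 * a) := by rw [hK, ← hqa, ← pow_mul, mul_comm]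
  have hpr : p = r := CharP.eq K (charP_of_card hp hK') ‹CharP K r›
  subst hpr
  subst hqa
  have hsimple := S1070.result hq hK
  have hsch := Cfsg.Agent.Schreier.TwESix.sch_of_iso2E6 (G := ↥(twistedE6 K (p ^ a)))
    ⟨K, inferInstance, inferInstance, p ^ a, hq, hK, ⟨MulEquiv.refl _⟩⟩
  refine fieldAct_of (stab_e6 _) (H254.isSolvable_out_of_sch hsch) (c := Nat.gcd 3 (p ^ a + 1))
    (by omega) hK' (not_inner_e6 hq hK) ?_ ?_ ?_
  · rw [S2130.result p a hK' ha]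
    exact dvd_of_eq (by ring)
  · intro s hs h
    exact Or.inr ((Nat.prime_dvd_prime_iff_eq hs Nat.prime_three).1 (h.trans (Nat.gcd_dvd_left _ _)))
  · intro σ hσ hσ' s hs
    have : Fintype ↥(Fx σ) := Fintype.ofFinite _
    have hno : Odd (orderOf σ) := hσ.odd_of_ne_two fun h => hσ' (Or.inl h)
    have hE : p ^ (a * 2) = Nat.card ↥(Fx σ) ^ orderOf σ := by
      rw [← card_Fx, Nat.card_eq_fintype_card, hK', mul_comm]
    obtain ⟨a₀, j, h0, h1, h2, h3⟩ := exists_exp_two hp (by omega) hno hE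
    have h2' : Nat.card ↥(Fx σ) = p ^ (2 * a₀) := by rw [h2, ← pow_mul, mul_comm]
    have hp' : s.Prime := by
      rcases hs with rfl | rfl | rfl | rfl
      · exact Nat.prime_two
      · exact Nat.prime_three
      · exact Nat.prime_five
      · exact hp
    refine exists_fixed_of_dvd (stab_e6 _) σ (G₀ := twistedE6 ↥(Fx σ) (p ^ a)) (words_e6 (Fx σ).subtype _) hp' ?_
    rw [twistedE6_congr (E := ↥(Fx σ)) (e := p ^ a) (pow_eq h2' h3)]
    have hcard := S1066.result (K := ↥(Fx σ)) (hp.isPrimePow.pow h0) (by rw [← Nat.card_eq_fintype_card, h2])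
    have hq0 : 0 < p ^ a₀ := pow_pos hp.pos _
    set q := p ^ a₀ with hqdef
    have key : ∃ M, Nat.card ↥(twistedE6 ↥(Fx σ) q) = (q ^ 36 * (q ^ 12 - 1)) * M := by
      by_cases h3 : 3 ∣ q + 1
      · rw [Nat.gcd_eq_left h3] at hcard
        have h5 : 3 ∣ q ^ 5 + 1 := by
          have h6 : q + 1 ∣ q ^ 5 + 1 := by
            have := Odd.nat_add_dvd_pow_add_pow q 1 (n := 5) (by decide)
            rwa [one_pow] at this
          exact h3.trans h6
        obtain ⟨b, hb⟩ := h5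
        rw [hb] at hcard
        refine ⟨(q ^ 2 - 1) * b * (q ^ 6 - 1) * (q ^ 8 - 1) * (q ^ 9 + 1), ?_⟩
        refine Nat.eq_of_mul_eq_mul_left (show 0 < 3 by norm_num) ?_
        rw [hcard]
        ring
      · have h4 : Nat.gcd 3 (q + 1) = 1 := by
          rcases (Nat.dvd_prime Nat.prime_three).1 (Nat.gcd_dvd_left 3 (q + 1)) with h | h
          · exact h
          · exact absurd (h ▸ Nat.gcd_dvd_right 3 (q + 1)) h3
        rw [h4, one_mul] at hcard
        exact ⟨(q ^ 2 - 1) * (q ^ 5 + 1) * (q ^ 6 - 1) * (q ^ 8 - 1) * (q ^ 9 + 1), by rw [hcard]; ring⟩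
    obtain ⟨M, hM⟩ := key
    rw [hM]
    rcases hs with rfl | rfl | rfl | rfl
    · exact (prime_dvd_of Nat.prime_two hq0 (by norm_num) (by norm_num)).mul_right _
    · exact (prime_dvd_of Nat.prime_three hq0 (by norm_num) (by norm_num)).mul_right _
    · exact (prime_dvd_of Nat.prime_five hq0 (by norm_num) (by norm_num)).mul_right _
    · exact (((dvd_pow_self s h0).trans (dvd_pow_self (s ^ a₀) (by norm_num))).mul_right _).mul_right _

end Cfsg.Agent.H967.FaTw
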