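import Mathlib
import Cfsg.Agent.Prune
set_option linter.all false
prune_inst 0x7f00000000000000000000000000000000000000000000000000000000000000000000000000000000000000000000000000000000000000000000000000000000000000000000000000000000000000003fffffffffffffffffffffffffffbeffbdffffffff
open scoped Cfsg.Agent.FastGrp

/-!
# Arithmetic for simple groups with all elements of prime power order (S2497)
-/

set_option autoImplicit false

namespace Cfsg.Agent.H967.EppoArith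

/-- `2 ^ n = 3 ^ a + 1` only for `n ≤ 2`. -/
theorem two_pow_eq {n a : ℕ} (h : 2 ^ n = 3 ^ a + 1) : n ≤ 2 := by
  by_contra hn
  push Not at hn
  have h8 : (8 : ℕ) ∣ 2 ^ n := by
    have : (2 : ℕ) ^ 3 ∣ 2 ^ n := pow_dvd_pow 2 hn
    simpa using this
  have h3 : ∀ a : ℕ, 3 ^ a % 8 = 1 ∨ 3 ^ a % 8 = 3 := by
    intro a
    induction a with
    | zero => simp
    | succ k ih => rw [pow_succ]; omega
  have := h3 a
  omega

/-- `2 ^ n + 1 = 3 ^ b` only for `n ≤ 3`. -/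
theorem two_pow_add_one_eq {n b : ℕ} (h : 2 ^ n + 1 = 3 ^ b) : n ≤ 3 := by
  by_contra hn
  push Not at hn
  have h16 : (16 : ℕ) ∣ 2 ^ n := by
    have : (2 : ℕ) ^ 4 ∣ 2 ^ n := pow_dvd_pow 2 hn
    simpa using this
  have h3 : ∀ b : ℕ, (3 ^ b % 16 = 1 → 4 ∣ b) := by
    intro b
    have hb : b % 4 < 4 := Nat.mod_lt _ (by norm_num)
    have hdiv : b = 4 * (b / 4) + b % 4 := (Nat.div_add_mod b 4).symm
    have h81 : ∀ k : ℕ, (81 ^ k) % 16 = 1 := by
      intro k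
      induction k with
      | zero => simp
      | succ k ih => rw [pow_succ]; omega
    intro hb1
    rw [hdiv, pow_add, pow_mul] at hb1
    norm_num at hb1
    have h81' := h81 (b / 4)
    rcases (by omega : b % 4 = 0 ∨ b % 4 = 1 ∨ b % 4 = 2 ∨ b % 4 = 3) with h0 | h0 | h0 | h0
    · omega
    · rw [h0] at hb1; norm_num [Nat.mul_mod, h81'] at hb1
    · rw [h0] at hb1; norm_num [Nat.mul_mod, h81'] at hb1
    · rw [h0] at hb1; norm_num [Nat.mul_mod, h81'] at hb1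
  have hb1 : 3 ^ b % 16 = 1 := by omega
  obtain ⟨c, rfl⟩ := h3 b hb1
  rw [pow_mul] at h
  norm_num at h
  have h5 : ∀ c : ℕ, (81 ^ c) % 5 = 1 := by
    intro k
    induction k with
    | zero => simp
    | succ k ih => rw [pow_succ]; omega
  have h5c := h5 c
  have h5d : 5 ∣ 2 ^ n := by omega
  have := (Nat.Prime.dvd_of_dvd_pow Nat.prime_five h5d)
  omega

theorem two_pow_mod_three (n : ℕ) : (Even n ∧ 2 ^ n % 3 = 1) ∨ (Odd n ∧ 2 ^ n % 3 = 2) := by
  induction n with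
  | zero => simp
  | succ k ih =>
    rw [pow_succ]
    rcases ih with ⟨h, h'⟩ | ⟨h, h'⟩
    · right; exact ⟨h.add_one, by omega⟩
    · left; exact ⟨h.add_one, by omega⟩

/-- a prime power divisible by the prime `p` is a power of `p` -/
theorem eq_pow_of_dvd {p k : ℕ} (hp : p.Prime) (h : IsPrimePow k) (hd : p ∣ k) : ∃ a, k = p ^ a := by
  obtain ⟨r, a, hr, ha, rfl⟩ := h
  have : p = r := (Nat.prime_dvd_prime_iff_eq hp hr.nat_prime).1 (hp.dvd_of_dvd_pow hd)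
  exact ⟨a, by rw [this]⟩

/-- The Suzuki case: `5 ^ k = 2 ^ (2 m + 1) ± 2 ^ (m + 1) + 1` only for `m ≤ 2`. -/
theorem suz {m k x : ℕ} (h : 5 ^ k = 2 ^ (m + 1) * x + 1) (hx : 2 ^ (m + 1) * x + 1 < 2 ^ (2 * m + 2)) (hx0 : 0 < x) :
    m ≤ 2 := by
  by_contra hm
  push Not at hm
  obtain ⟨j, rfl⟩ : ∃ j, m = j + 3 := ⟨m - 3, by omega⟩
  -- the order of 5 modulo 2 ^ (j + 4) is 2 ^ (j + 2)
  have ho : orderOf (5 : ZMod (2 ^ ((j + 2) + 2))) = 2 ^ (j + 2) := ZMod.orderOf_five (j + 2)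
  have h1 : (5 : ZMod (2 ^ ((j + 2) + 2))) ^ k = 1 := by
    have h2 : ((5 ^ k : ℕ) : ZMod (2 ^ ((j + 2) + 2))) = ((2 ^ (j + 3 + 1) * x + 1 : ℕ) : ZMod (2 ^ ((j + 2) + 2))) := by
      rw [h]
    push_cast at h2
    rw [h2]
    have h3 : (2 : ZMod (2 ^ ((j + 2) + 2))) ^ (j + 3 + 1) = 0 := by
      have := ZMod.natCast_self (2 ^ ((j + 2) + 2))
      push_cast at this
      convert this using 2
    rw [h3]; ring
  have hdvd : 2 ^ (j + 2) ∣ k := by rw [← ho]; exact orderOf_dvd_of_pow_eq_one h1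
  have hk0 : k ≠ 0 := by
    rintro rfl
    have : 0 < 2 ^ (j + 3 + 1) * x := by positivity
    simp at h
    omega
  have hle : 2 ^ (j + 2) ≤ k := Nat.le_of_dvd (Nat.pos_of_ne_zero hk0) hdvd
  have hbig : ∀ j : ℕ, 2 ^ (2 * (j + 3) + 2) < 5 ^ (2 ^ (j + 2)) := by
    intro j
    induction j with
    | zero => norm_num
    | succ i ih =>
      have e1 : (5 : ℕ) ^ (2 ^ (i + 1 + 2)) = 5 ^ (2 ^ (i + 2)) * 5 ^ (2 ^ (i + 2)) := by
        rw [← pow_add]; congr 1; rw [show i + 1 + 2 = (i + 2) + 1 by ring, pow_succ]; ring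
      have e2 : (2 : ℕ) ^ (2 * (i + 1 + 3) + 2) = 2 ^ (2 * (i + 3) + 2) * 4 := by
        rw [show 2 * (i + 1 + 3) + 2 = (2 * (i + 3) + 2) + 2 by ring, pow_add]; norm_num
      have e3 : 4 ≤ 5 ^ (2 ^ (i + 2)) := by
        calc 4 ≤ 5 ^ 1 := by norm_num
          _ ≤ 5 ^ (2 ^ (i + 2)) := Nat.pow_le_pow_right (by norm_num) Nat.one_le_two_pow
      rw [e1, e2]
      nlinarith
  have := hbig j
  have h6 : 5 ^ (2 ^ (j + 2)) ≤ 5 ^ k := Nat.pow_le_pow_right (by norm_num) hle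
  omega

/-- The Suzuki case. -/
theorem suzuki {m : ℕ} (hm : 1 ≤ m) (h1 : IsPrimePow (2 ^ (2 * m + 1) + 2 ^ (m + 1) + 1))
    (h2 : IsPrimePow (2 ^ (2 * m + 1) - 2 ^ (m + 1) + 1)) : m = 1 ∨ m = 2 := by
  have key : m ≤ 2 := by
    obtain ⟨j, rfl⟩ : ∃ j, m = j + 1 := ⟨m - 1, by omega⟩
    have hq : (2 : ℕ) ^ (2 * (j + 1) + 1) = 2 ^ (j + 1 + 1) * 2 ^ (j + 1) := by
      rw [← pow_add]; congr 1; ring
    have h2' : 2 ≤ 2 ^ (j + 1) := by
      calc 2 = 2 ^ 1 := by norm_num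
        _ ≤ 2 ^ (j + 1) := Nat.pow_le_pow_right (by norm_num) (by omega)
    have hle : (2 : ℕ) ^ (j + 1 + 1) ≤ 2 ^ (2 * (j + 1) + 1) := Nat.pow_le_pow_right (by norm_num) (by omega)
    have hd : 5 ∣ (2 ^ (2 * (j + 1) + 1) + 2 ^ (j + 1 + 1) + 1) * (2 ^ (2 * (j + 1) + 1) - 2 ^ (j + 1 + 1) + 1) := by
      have e : (2 ^ (2 * (j + 1) + 1) + 2 ^ (j + 1 + 1) + 1) * (2 ^ (2 * (j + 1) + 1) - 2 ^ (j + 1 + 1) + 1)
          = 4 * 16 ^ (j + 1) + 1 := by
        zify [hle]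
        have e1 : (2 : ℤ) ^ (2 * (j + 1) + 1) = 2 * (2 ^ (j + 1)) ^ 2 := by ring
        have e2 : (2 : ℤ) ^ (j + 1 + 1) = 2 * 2 ^ (j + 1) := by ring
        have e3 : (16 : ℤ) ^ (j + 1) = (2 ^ (j + 1)) ^ 4 := by
          rw [← pow_mul, mul_comm, pow_mul]; norm_num
        rw [e1, e2, e3]; ring
      rw [e]
      have : ∀ i : ℕ, 16 ^ i % 5 = 1 := by
        intro i
        induction i with
        | zero => simp
        | succ k ih => rw [pow_succ]; omega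
      have := this (j + 1)
      omega
    rcases (Nat.Prime.dvd_mul Nat.prime_five).1 hd with hd | hd
    · obtain ⟨k, hk⟩ := eq_pow_of_dvd Nat.prime_five h1 hd
      refine suz (k := k) (x := 2 ^ (j + 1) + 1) ?_ ?_ (by positivity)
      · rw [← hk, hq]; ring
      · have e : (2 : ℕ) ^ (2 * (j + 1) + 2) = 2 ^ (j + 1 + 1) * 2 ^ (j + 1) * 2 := by
          rw [← hq, ← pow_succ]
        rw [e]
        have : 2 ^ (j + 1 + 1) = 2 * 2 ^ (j + 1) := by ring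
        rw [this]
        rcases Nat.lt_or_ge 2 (2 ^ (j + 1)) with h | h
        · nlinarith
        · have h3 : 2 ^ (j + 1) = 2 := by omega
          rw [h3]; norm_num
    · obtain ⟨k, hk⟩ := eq_pow_of_dvd Nat.prime_five h2 hd
      refine suz (k := k) (x := 2 ^ (j + 1) - 1) ?_ ?_ (by omega)
      · rw [← hk, hq, Nat.mul_sub]; simp
      · have e : (2 : ℕ) ^ (2 * (j + 1) + 2) = 2 ^ (j + 1 + 1) * 2 ^ (j + 1) * 2 := by
          rw [← hq, ← pow_succ]
        rw [e, Nat.mul_sub]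
        have h4 : 0 < 2 ^ (j + 1 + 1) * 2 ^ (j + 1) := by positivity
        have h5 : 2 ≤ 2 ^ (j + 1 + 1) * 1 := by
          rw [mul_one, pow_succ]; omega
        omega
  omega

/-- Even `q`. -/
theorem even_case {n : ℕ} (hn : 2 ≤ n) (h1 : ∃ k, IsPrimePow k ∧ (2 ^ n - 1) ∣ k) (h2 : IsPrimePow (2 ^ n + 1)) :
    n = 2 ∨ n = 3 := by
  have h4 : 4 ≤ 2 ^ n := by
    calc 4 = 2 ^ 2 := by norm_num
      _ ≤ 2 ^ n := Nat.pow_le_pow_right (by norm_num) hn
  rcases two_pow_mod_three n with ⟨h, h'⟩ | ⟨h, h'⟩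
  · obtain ⟨k, hk, hd⟩ := h1
    have h3 : 3 ∣ k := dvd_trans (by omega) hd
    obtain ⟨a, rfl⟩ := eq_pow_of_dvd Nat.prime_three hk h3
    obtain ⟨b, -, hb⟩ := (Nat.dvd_prime_pow Nat.prime_three).1 hd
    have := two_pow_eq (n := n) (a := b) (by omega)
    omega
  · have h3 : 3 ∣ 2 ^ n + 1 := by omega
    obtain ⟨a, ha⟩ := eq_pow_of_dvd Nat.prime_three h2 h3
    have := two_pow_add_one_eq ha
    omega

/-- Fermat primes. -/
theorem fermat_case {k : ℕ} (hk : 1 ≤ k) (hp : (2 ^ k + 1).Prime) (h : IsPrimePow (2 ^ (k - 1) + 1)) :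
    k = 1 ∨ k = 2 ∨ k = 4 := by
  obtain ⟨j, rfl⟩ : ∃ j, k = j + 1 := ⟨k - 1, by omega⟩
  simp only [Nat.add_sub_cancel] at h
  rcases two_pow_mod_three (j + 1) with ⟨he, h'⟩ | ⟨ho, h'⟩
  · -- j odd
    have h3 : 3 ∣ 2 ^ j + 1 := by rw [pow_succ] at h'; omega
    obtain ⟨a, ha⟩ := eq_pow_of_dvd Nat.prime_three h h3
    have := two_pow_add_one_eq ha
    rcases he with ⟨c, hc⟩
    omega
  · have h3 : 3 ∣ 2 ^ (j + 1) + 1 := by omega
    have h4 : 3 = 2 ^ (j + 1) + 1 := (Nat.prime_dvd_prime_iff_eq Nat.prime_three hp).1 h3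
    left
    have : 2 ^ (j + 1) = 2 ^ 1 := by omega
    exact Nat.pow_right_injective le_rfl this

/-- Mersenne primes. -/
theorem mersenne_case {k q : ℕ} (hq : q + 1 = 2 ^ k) (hp : q.Prime)
    (h : ∃ m, IsPrimePow m ∧ (2 ^ (k - 1) - 1) ∣ m) : k = 2 ∨ k = 3 := by
  have hk : 1 ≤ k := by
    by_contra h0
    have : k = 0 := by omega
    subst this
    have := hp.two_le
    simp at hq
    omega
  obtain ⟨j, rfl⟩ : ∃ j, k = j + 1 := ⟨k - 1, by omega⟩
  simp only [Nat.add_sub_cancel] at h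
  rcases two_pow_mod_three (j + 1) with ⟨he, h'⟩ | ⟨ho, h'⟩
  · have h3 : 3 ∣ q := by omega
    have h4 : 3 = q := (Nat.prime_dvd_prime_iff_eq Nat.prime_three hp).1 h3
    left
    have : 2 ^ (j + 1) = 2 ^ 2 := by omega
    exact Nat.pow_right_injective le_rfl this
  · obtain ⟨m, hm, hd⟩ := h
    rcases ho with ⟨c, hc⟩
    by_cases hj0 : j = 0
    · subst hj0
      have := hp.two_le
      simp at hq
      omega
    have h1 : 2 ^ j % 3 = 1 := by
      rcases two_pow_mod_three j with ⟨he, h''⟩ | ⟨ho, h''⟩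
      · exact h''
      · rw [pow_succ] at h'; omega
    have h3 : 3 ∣ m := dvd_trans (by omega) hd
    obtain ⟨a, rfl⟩ := eq_pow_of_dvd Nat.prime_three hm h3
    obtain ⟨b, -, hb⟩ := (Nat.dvd_prime_pow Nat.prime_three).1 hd
    have h4 : 1 ≤ 2 ^ j := Nat.one_le_two_pow
    have := two_pow_eq (n := j) (a := b) (by omega)
    omega

end Cfsg.Agent.H967.EppoArith
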